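import Mathlib
import Cfsg.Agent.ClassicalGeometry.Sp4Graph
import Cfsg.Agent.Involutions.BaerSuzuki
import Cfsg.Agent.H319.FC.Sem
import Cfsg.Agent.H319.FC.Defs
set_option linter.all false

-- part: H88/FC/Quad
section
/-!
# `Sp_4(F)`, characteristic two: the quadratic equation of `v + v⁻¹` (helper88, S5764, SP4G)

* `st A` : the symplectic adjoint of the `4 × 4` matrix `A`; `A ∈ Sp ↔ A * st A = 1`;
* `W_sq` : `W = A + st A` satisfies `W² = (tr A) W + pf A`; for symplectic `A`, `pf A = tr (mn A)`;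
* `exists_of_comm` : if `tr v ≠ 0`, `tr (mn v) ≠ 0`, every matrix commuting with the symplectic matrix `v` is
  `a + b w + (c + d w) v`, `w = v + v⁻¹`.
-/

set_option autoImplicit false
set_option linter.unusedSectionVars false

namespace Cfsg.Agent.H88.FC

open Matrix Cfsg.Agent.ClassicalGeometry.Sp4Graph

variable {F : Type*} [Field F] [CharP F 2]

/-- the symplectic adjoint -/
def st (A : Matrix I4 I4 F) : Matrix I4 I4 F := Matrix.of fun i j => A (Sum.swap j) (Sum.swap i)

theorem st_apply (A : Matrix I4 I4 F) (i j : I4) : st A i j = A (Sum.swap j) (Sum.swap i) := rfl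

theorem st_st (A : Matrix I4 I4 F) : st (st A) = A := by
  ext i j
  rw [st_apply, st_apply, Sum.swap_swap, Sum.swap_swap]

theorem st_add (A B : Matrix I4 I4 F) : st (A + B) = st A + st B := rfl

theorem st_smul (c : F) (A : Matrix I4 I4 F) : st (c • A) = c • st A := rfl

theorem st_zero : st (0 : Matrix I4 I4 F) = 0 := rfl

theorem st_mul (A B : Matrix I4 I4 F) : st (A * B) = st B * st A := by
  ext i j
  rw [st_apply, Matrix.mul_apply, Matrix.mul_apply]
  refine Fintype.sum_equiv (Equiv.sumComm (Fin 2) (Fin 2)) _ _ fun k => ?_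
  rw [st_apply, st_apply, Equiv.sumComm_apply, Sum.swap_swap, mul_comm]

theorem st_one : st (1 : Matrix I4 I4 F) = 1 := by
  ext i j
  rw [st_apply, Matrix.one_apply, Matrix.one_apply]
  have : (Sum.swap j = Sum.swap i) ↔ (i = j) := by
    constructor
    · intro h
      have := congrArg Sum.swap h
      rw [Sum.swap_swap, Sum.swap_swap] at this
      exact this.symm
    · rintro rfl; rfl
  simp only [this]

theorem mem_iff (A : Matrix I4 I4 F) : A ∈ Matrix.symplecticGroup (Fin 2) F ↔ A * st A = 1 := by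
  have key : ∀ i j : I4, (A * st A) i j = A i (.inl 0) * A (Sum.swap j) (.inr 0) + A i (.inr 0) * A (Sum.swap j) (.inl 0)
      + A i (.inl 1) * A (Sum.swap j) (.inr 1) + A i (.inr 1) * A (Sum.swap j) (.inl 1) := by
    intro i j
    rw [mul_eq]
    simp only [st_apply, Sum.swap_inl, Sum.swap_inr]
    ring
  constructor
  · intro hA
    ext i j
    rw [key, row_rel hA, Sum.swap_swap, Matrix.one_apply]
  · intro h
    apply mem_of_row_rel
    intro i j
    have h1 := key i (Sum.swap j)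
    rw [Sum.swap_swap] at h1
    rw [← h1, h, Matrix.one_apply]

theorem mul_st (A : Matrix.symplecticGroup (Fin 2) F) : (A : Matrix I4 I4 F) * st A = 1 := (mem_iff _).1 A.2

theorem st_mul_self (A : Matrix.symplecticGroup (Fin 2) F) : st (A : Matrix I4 I4 F) * A = 1 :=
  mul_eq_one_comm.1 (mul_st A)

theorem coe_inv (A : Matrix.symplecticGroup (Fin 2) F) :
    ((A⁻¹ : Matrix.symplecticGroup (Fin 2) F) : Matrix I4 I4 F) = st (A : Matrix I4 I4 F) := by
  have h1 : ((A⁻¹ : Matrix.symplecticGroup (Fin 2) F) : Matrix I4 I4 F) * (A : Matrix I4 I4 F) = 1 :=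
    congrArg Subtype.val (inv_mul_cancel A)
  calc ((A⁻¹ : Matrix.symplecticGroup (Fin 2) F) : Matrix I4 I4 F)
      = ((A⁻¹ : Matrix.symplecticGroup (Fin 2) F) : Matrix I4 I4 F) * ((A : Matrix I4 I4 F) * st A) := by
        rw [mul_st, mul_one]
    _ = st (A : Matrix I4 I4 F) := by rw [← mul_assoc, h1, one_mul]

/-- `W A = A + A*` -/
def W (A : Matrix I4 I4 F) : Matrix I4 I4 F := A + st A

/-- the Pfaffian of `A + A*` -/
def pf (A : Matrix I4 I4 F) : F :=
  (A (.inl 0) (.inl 0) + A (.inr 0) (.inr 0)) * (A (.inl 1) (.inl 1) + A (.inr 1) (.inr 1))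
  + (A (.inl 0) (.inl 1) + A (.inr 1) (.inr 0)) * (A (.inl 1) (.inl 0) + A (.inr 0) (.inr 1))
  + (A (.inl 0) (.inr 1) + A (.inl 1) (.inr 0)) * (A (.inr 0) (.inl 1) + A (.inr 1) (.inl 0))

theorem trace_eq (A : Matrix I4 I4 F) : A.trace = A (.inl 0) (.inl 0) + A (.inr 0) (.inr 0)
    + A (.inl 1) (.inl 1) + A (.inr 1) (.inr 1) := by
  simp [Matrix.trace, Fintype.sum_sum_type, Fin.sum_univ_two]
  ring

theorem W_sq (A : Matrix I4 I4 F) : W A * W A = A.trace • W A + pf A • (1 : Matrix I4 I4 F) := by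
  have h2 : (2 : F) = 0 := CharTwo.two_eq_zero
  have h4 : (4 : F) = 0 := by rw [show (4 : F) = 2 * 2 by norm_num, h2, mul_zero]
  ext i j
  rw [mul_eq, trace_eq]
  simp only [Matrix.add_apply, Matrix.smul_apply, W, st_apply, Matrix.one_apply, pf, smul_eq_mul]
  rcases i with i | i <;> rcases j with j | j <;> fin_cases i <;> fin_cases j <;>
    simp only [Fin.zero_eta, Fin.mk_one, Fin.isValue, Sum.swap_inl, Sum.swap_inr, if_true, reduceCtorEq, if_false,
      Sum.inl.injEq, Sum.inr.injEq, zero_ne_one, one_ne_zero] <;>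
    (rw [← sub_eq_zero]; ring_nf; simp only [h2, h4, mul_zero, add_zero, sub_zero, neg_zero])

theorem pf_eq (A : Matrix.symplecticGroup (Fin 2) F) : pf (A : Matrix I4 I4 F) = (mn (A : Matrix I4 I4 F)).trace := by
  have h2 : (2 : F) = 0 := CharTwo.two_eq_zero
  have h3 := row_rel A.2 (.inl 0) (.inr 0)
  have h4 := col_rel A.2 (.inl 0) (.inr 0)
  simp only [Sum.swap_inr, if_true] at h3 h4
  rw [trace_eq]
  simp only [mn_apply, pf]
  simp only [pa_inl, pa_inr, pb_inl0, pb_inl1, pb_inr0, pb_inr1]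
  set B : Matrix I4 I4 F := (A : Matrix I4 I4 F) with hB
  clear_value B
  linear_combination h3 + h4 - (B (.inl 0) (.inl 0) * B (.inr 0) (.inr 0) + B (.inl 0) (.inr 0) * B (.inr 0) (.inl 0) - 1) * h2

theorem W_sq' (A : Matrix.symplecticGroup (Fin 2) F) :
    W (A : Matrix I4 I4 F) * W A = (A : Matrix I4 I4 F).trace • W A + (graphHom F A : Matrix I4 I4 F).trace • (1 : Matrix I4 I4 F) := by
  rw [W_sq, pf_eq, graphHom_coe]

theorem trace_W (A : Matrix I4 I4 F) : A.trace = W A (.inl 0) (.inl 0) + W A (.inl 1) (.inl 1) := by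
  rw [trace_eq]
  simp only [W, Matrix.add_apply, st_apply, Sum.swap_inl]
  ring

/-- if `A + A*` is scalar then `tr A = 0` -/
theorem trace_eq_zero {A : Matrix I4 I4 F} {c : F} (h : W A = c • (1 : Matrix I4 I4 F)) : A.trace = 0 := by
  rw [trace_W, h]
  simp only [Matrix.smul_apply, Matrix.one_apply, if_true]
  exact CharTwo.add_self_eq_zero _

theorem W_add (A B : Matrix I4 I4 F) : W (A + B) = W A + W B := by
  rw [W, W, W, st_add]
  abel

/-- polarisation of `W_sq` -/
theorem W_comm (A B : Matrix I4 I4 F) : ∃ k : F, W A * W B + W B * W A =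
    A.trace • W B + B.trace • W A + k • (1 : Matrix I4 I4 F) := by
  refine ⟨pf (A + B) - pf A - pf B, ?_⟩
  have h1 := W_sq (A + B)
  rw [W_add, Matrix.trace_add] at h1
  have h2 := W_sq A
  have h3 := W_sq B
  have h4 : (W A + W B) * (W A + W B) = W A * W A + W B * W B + (W A * W B + W B * W A) := by noncomm_ring
  rw [h4, h2, h3] at h1
  have h5 : W A * W B + W B * W A = ((A.trace + B.trace) • (W A + W B) + pf (A + B) • (1 : Matrix I4 I4 F))
      - (A.trace • W A + pf A • (1 : Matrix I4 I4 F) + (B.trace • W B + pf B • (1 : Matrix I4 I4 F))) := by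
    rw [← h1]
    abel
  rw [h5]
  module

/-- `X = a + b w` -/
def InK (w X : Matrix I4 I4 F) : Prop := ∃ a b : F, X = a • (1 : Matrix I4 I4 F) + b • w

section InK

variable {w X Y : Matrix I4 I4 F}

theorem InK.scal (a : F) : InK w (a • (1 : Matrix I4 I4 F)) := ⟨a, 0, by rw [zero_smul, add_zero]⟩

theorem InK.one : InK w (1 : Matrix I4 I4 F) := ⟨1, 0, by rw [zero_smul, add_zero, one_smul]⟩

theorem InK.self : InK w w := ⟨0, 1, by rw [zero_smul, zero_add, one_smul]⟩

theorem InK.add (hX : InK w X) (hY : InK w Y) : InK w (X + Y) := by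
  obtain ⟨a, b, rfl⟩ := hX
  obtain ⟨c, d, rfl⟩ := hY
  exact ⟨a + c, b + d, by module⟩

theorem InK.smul (c : F) (hX : InK w X) : InK w (c • X) := by
  obtain ⟨a, b, rfl⟩ := hX
  exact ⟨c * a, c * b, by module⟩

theorem InK.mul {c₁ c₂ : F} (hw : w * w = c₁ • w + c₂ • (1 : Matrix I4 I4 F)) (hX : InK w X) (hY : InK w Y) :
    InK w (X * Y) := by
  obtain ⟨a, b, rfl⟩ := hX
  obtain ⟨c, d, rfl⟩ := hY
  refine ⟨a * c + b * d * c₂, a * d + b * c + b * d * c₁, ?_⟩
  have h : (a • (1 : Matrix I4 I4 F) + b • w) * (c • (1 : Matrix I4 I4 F) + d • w) =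
      (a * c) • (1 : Matrix I4 I4 F) + (a * d + b * c) • w + (b * d) • (w * w) := by
    simp only [add_mul, mul_add, smul_mul_assoc, mul_smul_comm, one_mul, mul_one]
    module
  rw [h, hw]
  module

theorem InK.comm_of {Z : Matrix I4 I4 F} (hX : InK w X) (hZ : w * Z = Z * w) : X * Z = Z * X := by
  obtain ⟨a, b, rfl⟩ := hX
  simp only [add_mul, mul_add, smul_mul_assoc, mul_smul_comm, one_mul, mul_one, hZ]

theorem InK.comm (hX : InK w X) (hY : InK w Y) : X * Y = Y * X :=
  hX.comm_of (hY.comm_of rfl).symm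

theorem InK.st (hw : FC.st w = w) (hX : InK w X) : FC.st X = X := by
  obtain ⟨a, b, rfl⟩ := hX
  rw [st_add, st_smul, st_smul, st_one, hw]

theorem InK.coeff (hw : ∀ c : F, w ≠ c • (1 : Matrix I4 I4 F)) {a b c d : F}
    (h : a • (1 : Matrix I4 I4 F) + b • w = c • (1 : Matrix I4 I4 F) + d • w) : a = c ∧ b = d := by
  have hb : b = d := by
    by_contra hne
    apply hw ((b - d)⁻¹ * (c - a))
    have h1 : (b - d) • w = (c - a) • (1 : Matrix I4 I4 F) := by
      have h2 : (b - d) • w = (a • (1 : Matrix I4 I4 F) + b • w) - a • (1 : Matrix I4 I4 F) - d • w := by module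
      rw [h2, h]
      module
    rw [mul_smul, ← h1, smul_smul, inv_mul_cancel₀ (sub_ne_zero.2 hne), one_smul]
  subst hb
  refine ⟨?_, rfl⟩
  have h1 : a • (1 : Matrix I4 I4 F) = c • (1 : Matrix I4 I4 F) := add_right_cancel h
  have h2 := congrFun (congrFun h1 (.inl 0)) (.inl 0)
  simpa using h2

theorem InK.sq_eq_zero {c₁ c₂ : F} (hc : c₁ ≠ 0) (hw : w * w = c₁ • w + c₂ • (1 : Matrix I4 I4 F))
    (hns : ∀ c : F, w ≠ c • (1 : Matrix I4 I4 F)) (hX : InK w X) (h : X * X = 0) : X = 0 := by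
  obtain ⟨a, b, rfl⟩ := hX
  have h1 : (a • (1 : Matrix I4 I4 F) + b • w) * (a • (1 : Matrix I4 I4 F) + b • w) =
      (a * a + b * b * c₂) • (1 : Matrix I4 I4 F) + (b * b * c₁) • w := by
    have h2 : (a • (1 : Matrix I4 I4 F) + b • w) * (a • (1 : Matrix I4 I4 F) + b • w) =
      (a * a) • (1 : Matrix I4 I4 F) + (a * b + a * b) • w + (b * b) • (w * w) := by
      simp only [add_mul, mul_add, smul_mul_assoc, mul_smul_comm, one_mul, mul_one]
      module
    rw [h2, hw, CharTwo.add_self_eq_zero]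
    module
  rw [h1] at h
  have h3 : (a * a + b * b * c₂) • (1 : Matrix I4 I4 F) + (b * b * c₁) • w =
      (0 : F) • (1 : Matrix I4 I4 F) + (0 : F) • w := by rw [h]; simp
  obtain ⟨h4, h5⟩ := InK.coeff hns h3
  have hb : b = 0 := by
    rcases mul_eq_zero.1 h5 with h6 | h6
    · exact mul_self_eq_zero.1 h6
    · exact absurd h6 hc
  subst hb
  rw [zero_mul, zero_mul, add_zero] at h4
  rw [mul_self_eq_zero.1 h4]
  simp

end InK

/-- the hypothesis on `v` -/
structure Reg (v : Matrix.symplecticGroup (Fin 2) F) : Prop where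
  c1 : (v : Matrix I4 I4 F).trace ≠ 0
  c2 : (graphHom F v : Matrix I4 I4 F).trace ≠ 0

section Reg

variable {v : Matrix.symplecticGroup (Fin 2) F}

theorem st_W (A : Matrix I4 I4 F) : st (W A) = W A := by
  rw [W, st_add, st_st, add_comm]

theorem Reg.ns (hv : Reg v) (c : F) : W (v : Matrix I4 I4 F) ≠ c • (1 : Matrix I4 I4 F) :=
  fun h => hv.c1 (trace_eq_zero h)

theorem comm_st {X : Matrix I4 I4 F} (hX : X * v = v * X) : X * st (v : Matrix I4 I4 F) = st (v : Matrix I4 I4 F) * X :=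
  calc X * st (v : Matrix I4 I4 F) = st (v : Matrix I4 I4 F) * v * (X * st (v : Matrix I4 I4 F)) := by
        rw [st_mul_self, one_mul]
    _ = st (v : Matrix I4 I4 F) * (v * X) * st (v : Matrix I4 I4 F) := by simp only [mul_assoc]
    _ = st (v : Matrix I4 I4 F) * X * (v * st (v : Matrix I4 I4 F)) := by rw [← hX]; simp only [mul_assoc]
    _ = st (v : Matrix I4 I4 F) * X := by rw [mul_st, mul_one]

theorem st_comm {X : Matrix I4 I4 F} (hX : X * v = v * X) : st X * v = v * st X := by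
  have h := congrArg st (comm_st hX)
  rw [st_mul, st_mul, st_st] at h
  exact h.symm

theorem comm_W {X : Matrix I4 I4 F} (hX : X * v = v * X) : W (v : Matrix I4 I4 F) * X = X * W (v : Matrix I4 I4 F) := by
  rw [W, add_mul, mul_add, hX, comm_st hX]

theorem W_inK (hv : Reg v) {X : Matrix I4 I4 F} (hX : X * v = v * X) : InK (W (v : Matrix I4 I4 F)) (W X) := by
  obtain ⟨k, hk⟩ := W_comm (v : Matrix I4 I4 F) X
  have h1 : W (v : Matrix I4 I4 F) * W X = W X * W (v : Matrix I4 I4 F) := by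
    rw [W.eq_1 X, mul_add, add_mul, comm_W hX, comm_W (st_comm hX)]
  have h2 : W (v : Matrix I4 I4 F) * W X + W X * W (v : Matrix I4 I4 F) = 0 := by
    rw [h1]
    exact CharTwo.add_self_eq_zero _
  rw [h2] at hk
  set c := (v : Matrix I4 I4 F).trace with hc
  refine ⟨c⁻¹ * k, c⁻¹ * X.trace, ?_⟩
  have h3 : c • W X = X.trace • W (v : Matrix I4 I4 F) + k • (1 : Matrix I4 I4 F) := by
    have h4 : c • W X + (X.trace • W (v : Matrix I4 I4 F) + k • (1 : Matrix I4 I4 F)) = 0 := by
      rw [hk]; abel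
    exact CharTwo.add_eq_zero.1 h4
  calc W X = c⁻¹ • (c • W X) := by rw [smul_smul, inv_mul_cancel₀ hv.c1, one_smul]
    _ = _ := by rw [h3]; module

theorem W_mul_inv (hv : Reg v) : ∃ u : Matrix I4 I4 F, InK (W (v : Matrix I4 I4 F)) u ∧ u * W (v : Matrix I4 I4 F) = 1 := by
  have h := W_sq' v
  set c₁ := (v : Matrix I4 I4 F).trace with hc1
  set c₂ := (graphHom F v : Matrix I4 I4 F).trace with hc2
  set w := W (v : Matrix I4 I4 F) with hw
  refine ⟨c₂⁻¹ • (w + c₁ • (1 : Matrix I4 I4 F)), (InK.self.add (InK.scal _)).smul _, ?_⟩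
  rw [smul_mul_assoc, add_mul, h, smul_mul_assoc, one_mul]
  have h1 : c₁ • w + c₂ • (1 : Matrix I4 I4 F) + c₁ • w = c₂ • (1 : Matrix I4 I4 F) + (c₁ + c₁) • w := by module
  rw [h1, CharTwo.add_self_eq_zero, zero_smul, add_zero, smul_smul, inv_mul_cancel₀ hv.c2, one_smul]

/-- **the commutant of `v`** -/
theorem exists_of_comm (hv : Reg v) {X : Matrix I4 I4 F} (hX : X * v = v * X) :
    ∃ α β : Matrix I4 I4 F, InK (W (v : Matrix I4 I4 F)) α ∧ InK (W (v : Matrix I4 I4 F)) β ∧ X = α + β * v := by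
  have hw2 := W_sq' v
  obtain ⟨u, hu, hu1⟩ := W_mul_inv hv
  have hk1 := W_inK hv hX
  have hvX : (v * X : Matrix I4 I4 F) * v = v * (v * X) := by rw [mul_assoc, hX]
  have hk2 := W_inK hv hvX
  set w := W (v : Matrix I4 I4 F) with hw
  set V : Matrix I4 I4 F := (v : Matrix I4 I4 F) with hV
  have h1 : st X = X + W X := by
    rw [W, ← add_assoc, CharTwo.add_self_eq_zero, zero_add]
  have h2 : W (V * X) = V * X + (X + W X) * st V := by
    rw [W.eq_1 (V * X), st_mul, ← h1]
  have h3 : st V = w + V := by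
    rw [hw, W, add_assoc, add_comm (st V), ← add_assoc, CharTwo.add_self_eq_zero, zero_add]
  have h4 : w * X = W (V * X) + W X * (w + V) := by
    have h5 : X * st V = st V * X := comm_st hX
    rw [h2, add_mul, ← h3, h5, h3]
    have h6 : V * X + ((w + V) * X + W X * (w + V)) + W X * (w + V) =
        (V * X + V * X) + w * X + (W X * (w + V) + W X * (w + V)) := by
      rw [add_mul]; abel
    rw [← add_assoc] at h6 ⊢
    rw [add_assoc (V * X + (w + V) * X)] 
    rw [add_assoc (V * X + (w + V) * X)] at h6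
    rw [h6, CharTwo.add_self_eq_zero, zero_add, CharTwo.add_self_eq_zero, add_zero]
  have h7 : X = (u * W (V * X) + u * W X * w) + (u * W X) * V := by
    calc X = u * (w * X) := by rw [← mul_assoc, hu1, one_mul]
      _ = _ := by rw [h4]; noncomm_ring
  exact ⟨_, _, ((hu.mul hw2 hk2).add ((hu.mul hw2 hk1).mul hw2 InK.self)), hu.mul hw2 hk1, h7⟩

/-- the commutant of `v` is commutative -/
theorem comm_of_comm (hv : Reg v) {X Y : Matrix I4 I4 F} (hX : X * v = v * X) (hY : Y * v = v * Y) :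
    X * Y = Y * X := by
  obtain ⟨α, β, hα, hβ, rfl⟩ := exists_of_comm hv hX
  have h1 : α * Y = Y * α := hα.comm_of (comm_W hY)
  have h2 : β * Y = Y * β := hβ.comm_of (comm_W hY)
  rw [add_mul, mul_add, h1, mul_assoc, ← hY, ← mul_assoc, h2, mul_assoc]

theorem W_st_comm (v : Matrix.symplecticGroup (Fin 2) F) :
    W (v : Matrix I4 I4 F) * st (v : Matrix I4 I4 F) = st (v : Matrix I4 I4 F) * W (v : Matrix I4 I4 F) := by
  rw [W, add_mul, mul_add, mul_st, st_mul_self]

theorem W_self_comm (v : Matrix.symplecticGroup (Fin 2) F) :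
    W (v : Matrix I4 I4 F) * (v : Matrix I4 I4 F) = v * W (v : Matrix I4 I4 F) := comm_W rfl

theorem st_form {α β : Matrix I4 I4 F} (hα : InK (W (v : Matrix I4 I4 F)) α) (hβ : InK (W (v : Matrix I4 I4 F)) β) :
    st (α + β * (v : Matrix I4 I4 F)) = α + β * st (v : Matrix I4 I4 F) := by
  rw [st_add, hα.st (st_W _), st_mul, hβ.st (st_W _), hβ.comm_of (W_st_comm v)]

theorem W_form {α β : Matrix I4 I4 F} (hα : InK (W (v : Matrix I4 I4 F)) α) (hβ : InK (W (v : Matrix I4 I4 F)) β) :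
    W (α + β * (v : Matrix I4 I4 F)) = β * W (v : Matrix I4 I4 F) := by
  rw [W.eq_1 (α + β * (v : Matrix I4 I4 F)), st_form hα hβ, W, mul_add]
  have : α + β * (v : Matrix I4 I4 F) + (α + β * st (v : Matrix I4 I4 F)) =
    (α + α) + (β * (v : Matrix I4 I4 F) + β * st (v : Matrix I4 I4 F)) := by abel
  rw [this, CharTwo.add_self_eq_zero, zero_add]

/-- an involution commuting with `v` is trivial -/
theorem eq_one_of_sq (hv : Reg v) {n : Matrix.symplecticGroup (Fin 2) F} (hn : n * v = v * n) (h2 : n * n = 1) :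
    n = 1 := by
  have hw2 := W_sq' v
  obtain ⟨u, hu, hu1⟩ := W_mul_inv hv
  obtain ⟨α, β, hα, hβ, hX⟩ := exists_of_comm hv (congrArg Subtype.val hn)
  have hst : st (n : Matrix I4 I4 F) = n := by
    rw [← coe_inv, inv_eq_of_mul_eq_one_left h2]
  have h3 : β * W (v : Matrix I4 I4 F) = 0 := by
    rw [← W_form hα hβ, ← hX, W, hst]
    exact CharTwo.add_self_eq_zero _
  have h4 : β = 0 := by
    have h5 : β * W (v : Matrix I4 I4 F) * u = 0 := by rw [h3, zero_mul]
    rw [mul_assoc, InK.self.comm hu, hu1, mul_one] at h5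
    exact h5
  rw [h4, zero_mul, add_zero] at hX
  have h6 : (n : Matrix I4 I4 F) * n = 1 := congrArg Subtype.val h2
  have h7 : (α + 1) * (α + 1) = 0 := by
    have h8 : (α + 1) * (α + 1) = α * α + 1 + (α + α) := by noncomm_ring
    rw [h8, ← hX, h6, CharTwo.add_self_eq_zero, CharTwo.add_self_eq_zero, add_zero]
  have h9 := InK.sq_eq_zero hv.c1 hw2 hv.ns (hα.add InK.one) h7
  apply Subtype.ext
  rw [hX]
  exact CharTwo.add_eq_zero.1 h9

theorem eq_one_of_sq' (hv : Reg v) {n : Matrix.symplecticGroup (Fin 2) F} (hn : n * v = v * n) (h2 : n ^ 2 = 1) :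
    n = 1 := eq_one_of_sq hv hn (by rw [← sq, h2])

omit [CharP F 2] in
theorem commute_of_sq {y : Matrix.symplecticGroup (Fin 2) F} {X : Matrix I4 I4 F} (hy : Odd (orderOf y))
    (h : (y : Matrix I4 I4 F) * ((y : Matrix I4 I4 F) * X) = X * y * y) :
    (y : Matrix I4 I4 F) * X = X * y := by
  obtain ⟨k, hk⟩ := hy
  have h1 : y = (y * y) ^ (k + 1) := by
    rw [← sq, ← pow_mul, show 2 * (k + 1) = orderOf y + 1 by omega, pow_succ, pow_orderOf_eq_one, one_mul]
  have h2 : Commute ((y : Matrix I4 I4 F) * y) X := by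
    change (y : Matrix I4 I4 F) * y * X = X * (y * y)
    rw [mul_assoc, h, mul_assoc]
  have h3 : (y : Matrix I4 I4 F) = ((y : Matrix I4 I4 F) * y) ^ (k + 1) := by
    have := congrArg Subtype.val h1
    rw [SubmonoidClass.coe_pow, Submonoid.coe_mul] at this
    exact this
  have h4 := h2.pow_left (k + 1)
  rw [← h3] at h4
  exact h4

/-- **an element of odd order mapping `v` into its centralizer centralizes `v`** -/
theorem comm_of_conj (hv : Reg v) {y : Matrix.symplecticGroup (Fin 2) F} (hy : Odd (orderOf y))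
    (h : y * v * y⁻¹ * v = v * (y * v * y⁻¹)) : y * v = v * y := by
  have hw2 := W_sq' v
  obtain ⟨u, hu, hu1⟩ := W_mul_inv hv
  obtain ⟨α, β, hα, hβ, hX⟩ := exists_of_comm (X := ((y * v * y⁻¹ : Matrix.symplecticGroup (Fin 2) F) : Matrix I4 I4 F)) hv
    (congrArg Subtype.val h)
  have hyy : (y : Matrix I4 I4 F) * st (y : Matrix I4 I4 F) = 1 := mul_st y
  have hyy' : st (y : Matrix I4 I4 F) * (y : Matrix I4 I4 F) = 1 := st_mul_self y
  have hv' : ((y * v * y⁻¹ : Matrix.symplecticGroup (Fin 2) F) : Matrix I4 I4 F) =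
      (y : Matrix I4 I4 F) * (v : Matrix I4 I4 F) * st (y : Matrix I4 I4 F) := by
    rw [← coe_inv]; rfl
  rw [hv'] at hX
  have hw' : W ((y : Matrix I4 I4 F) * (v : Matrix I4 I4 F) * st (y : Matrix I4 I4 F)) =
      (y : Matrix I4 I4 F) * W (v : Matrix I4 I4 F) * st (y : Matrix I4 I4 F) := by
    rw [W, W, st_mul, st_mul, st_st]
    noncomm_ring
  rw [hX, W_form hα hβ] at hw'
  obtain ⟨c, d, hcd⟩ := hβ.mul hw2 InK.self
  rw [hcd] at hw'
  -- the quadratic equation
  set w := W (v : Matrix I4 I4 F) with hw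
  set c₁ := (v : Matrix I4 I4 F).trace with hc1
  set c₂ := (graphHom F v : Matrix I4 I4 F).trace with hc2
  set Y : Matrix I4 I4 F := (y : Matrix I4 I4 F) with hY
  have h1 : (c • (1 : Matrix I4 I4 F) + d • w) * (c • (1 : Matrix I4 I4 F) + d • w) =
      c₁ • (c • (1 : Matrix I4 I4 F) + d • w) + c₂ • (1 : Matrix I4 I4 F) := by
    have h2 : (c • (1 : Matrix I4 I4 F) + d • w) * (c • (1 : Matrix I4 I4 F) + d • w) = Y * (w * w) * st Y := by
      rw [hw']
      calc Y * w * st Y * (Y * w * st Y) = Y * w * (st Y * Y) * w * st Y := by simp only [mul_assoc]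
        _ = _ := by rw [hyy', mul_one]; simp only [mul_assoc]
    rw [h2, hw2, hw', mul_add, add_mul]
    simp only [mul_smul_comm, smul_mul_assoc, mul_one, hyy]
  have h2 : (c • (1 : Matrix I4 I4 F) + d • w) * (c • (1 : Matrix I4 I4 F) + d • w) =
      (c * c + d * d * c₂) • (1 : Matrix I4 I4 F) + (d * d * c₁) • w := by
    have h3 : (c • (1 : Matrix I4 I4 F) + d • w) * (c • (1 : Matrix I4 I4 F) + d • w) =
      (c * c) • (1 : Matrix I4 I4 F) + (c * d + c * d) • w + (d * d) • (w * w) := by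
      simp only [add_mul, mul_add, smul_mul_assoc, mul_smul_comm, one_mul, mul_one]
      module
    rw [h3, hw2, CharTwo.add_self_eq_zero]
    module
  rw [h2] at h1
  have h3 : (c * c + d * d * c₂) • (1 : Matrix I4 I4 F) + (d * d * c₁) • w =
      (c₁ * c + c₂) • (1 : Matrix I4 I4 F) + (c₁ * d) • w := by
    rw [h1]; module
  obtain ⟨h4, h5⟩ := InK.coeff hv.ns h3
  have hd : d = 1 := by
    have h6 : c₁ * (d * (d - 1)) = 0 := by linear_combination h5
    rcases mul_eq_zero.1 h6 with h7 | h7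
    · exact absurd h7 hv.c1
    rcases mul_eq_zero.1 h7 with h8 | h8
    · exfalso
      subst h8
      rw [zero_smul, add_zero] at hw'
      apply hv.ns c
      calc w = st Y * (Y * w * st Y) * Y := by
            calc w = (st Y * Y) * w * (st Y * Y) := by rw [hyy', one_mul, mul_one]
              _ = _ := by simp only [mul_assoc]
        _ = c • (1 : Matrix I4 I4 F) := by rw [← hw', mul_smul_comm, mul_one, smul_mul_assoc, hyy']
    · exact sub_eq_zero.1 h8
  subst hd
  rw [one_smul] at hw' hcd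
  have h6 : c * (c - c₁) = 0 := by linear_combination h4
  have h7 : (c • (1 : Matrix I4 I4 F) + w) * Y = Y * w := by
    rw [hw', mul_assoc, hyy', mul_one]
  -- `y` commutes with `w`
  have h8 : Y * w = w * Y := by
    rcases mul_eq_zero.1 h6 with h9 | h9
    · rw [← h7, h9, zero_smul, zero_add]
    · apply commute_of_sq hy
      have h10 : Y * w = c • Y + w * Y := by rw [← h7, add_mul, smul_mul_assoc, one_mul]
      rw [h10, mul_add, mul_smul_comm, ← mul_assoc, h10, add_mul, smul_mul_assoc, ← add_assoc]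
      have h11 : c • (Y * Y) + c • (Y * Y) = 0 := CharTwo.add_self_eq_zero _
      rw [h11, zero_add]
  have h9 : c • (1 : Matrix I4 I4 F) + w = w := by
    calc c • (1 : Matrix I4 I4 F) + w = (c • (1 : Matrix I4 I4 F) + w) * (Y * st Y) := by rw [hyy, mul_one]
      _ = w := by rw [← mul_assoc, h7, h8, mul_assoc, hyy, mul_one]
  have hβ1 : β = 1 := by
    have h10 : β * w * u = w * u := by rw [hcd, h9]
    rw [mul_assoc, InK.self.comm hu, hu1, mul_one] at h10
    exact h10
  rw [hβ1, one_mul] at hX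
  have h10 : Y * v = α * Y + v * Y := by
    calc Y * v = Y * v * (st Y * Y) := by rw [hyy', mul_one]
      _ = _ := by rw [← mul_assoc, hX, add_mul]
  apply Subtype.ext
  change Y * (v : Matrix I4 I4 F) = (v : Matrix I4 I4 F) * Y
  apply commute_of_sq hy
  have h11 : α * Y = Y * α := hα.comm_of h8.symm
  rw [h10, mul_add, ← mul_assoc Y (v : Matrix I4 I4 F) Y, h10, add_mul, ← mul_assoc, ← h11, ← add_assoc]
  have h12 : α * Y * Y + α * Y * Y = 0 := CharTwo.add_self_eq_zero _
  rw [h12, zero_add]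

end Reg

end Cfsg.Agent.H88.FC
end

-- part: H88/FC/Choice
section
/-!
# Choice of a regular element commuting with an abelian group of odd exponent (helper88, S5764, SP4G)
-/

set_option autoImplicit false
set_option linter.unusedSectionVars false

namespace Cfsg.Agent.H88.FC

open Matrix Cfsg.Agent.ClassicalGeometry.Sp4Graph

variable {F : Type*} [Field F] [CharP F 2]

theorem trace_mul_self (A : Matrix I4 I4 F) : (A * A).trace = A.trace * A.trace := by
  have h2 : (2 : F) = 0 := CharTwo.two_eq_zero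
  rw [trace_eq, trace_eq, mul_eq, mul_eq, mul_eq, mul_eq]
  rw [← sub_eq_zero]
  ring_nf
  simp only [h2, mul_zero, add_zero, sub_zero, neg_zero]

/-- first invariant -/
def c1 (A : Matrix.symplecticGroup (Fin 2) F) : F := (A : Matrix I4 I4 F).trace

/-- second invariant -/
def c2 (A : Matrix.symplecticGroup (Fin 2) F) : F := (graphHom F A : Matrix I4 I4 F).trace

theorem c1_graph (A : Matrix.symplecticGroup (Fin 2) F) : c1 (graphHom F A) = c2 A := rfl

theorem c2_graph (A : Matrix.symplecticGroup (Fin 2) F) : c2 (graphHom F A) = c1 A * c1 A := by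
  rw [c2, c1, trace_eq, graphHom_graphHom, graphHom_graphHom, graphHom_graphHom, graphHom_graphHom, trace_eq]
  have h2 : (2 : F) = 0 := CharTwo.two_eq_zero
  rw [← sub_eq_zero]
  ring_nf
  simp only [h2, mul_zero, sub_zero, neg_zero]

theorem c1_sq (A : Matrix.symplecticGroup (Fin 2) F) : c1 (A * A) = c1 A * c1 A := trace_mul_self _

theorem c2_sq (A : Matrix.symplecticGroup (Fin 2) F) : c2 (A * A) = c2 A * c2 A := by
  rw [← c1_graph, ← c1_graph, map_mul, c1_sq]

theorem c1_conj (A B : Matrix.symplecticGroup (Fin 2) F) : c1 (B * A * B⁻¹) = c1 A := by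
  change ((B : Matrix I4 I4 F) * (A : Matrix I4 I4 F) * ((B⁻¹ : Matrix.symplecticGroup (Fin 2) F) : Matrix I4 I4 F)).trace = _
  rw [Matrix.trace_mul_comm, ← mul_assoc]
  have : ((B⁻¹ : Matrix.symplecticGroup (Fin 2) F) : Matrix I4 I4 F) * (B : Matrix I4 I4 F) = 1 :=
    congrArg Subtype.val (inv_mul_cancel B)
  rw [this, one_mul, c1]

theorem c2_conj (A B : Matrix.symplecticGroup (Fin 2) F) : c2 (B * A * B⁻¹) = c2 A := by
  rw [← c1_graph, ← c1_graph, map_mul, map_mul, map_inv, c1_conj]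

theorem W_sq'' (A : Matrix.symplecticGroup (Fin 2) F) :
    W (A : Matrix I4 I4 F) * W A = c1 A • W A + c2 A • (1 : Matrix I4 I4 F) := W_sq' A

theorem exists_sqrt {a : Matrix.symplecticGroup (Fin 2) F} (ha : Odd (orderOf a)) :
    ∃ k : ℕ, a = a ^ k * a ^ k := by
  obtain ⟨k, hk⟩ := ha
  refine ⟨k + 1, ?_⟩
  rw [← pow_add, show k + 1 + (k + 1) = orderOf a + 1 by omega, pow_succ, pow_orderOf_eq_one, one_mul]

theorem W_mul_self (A : Matrix.symplecticGroup (Fin 2) F) :
    W ((A : Matrix I4 I4 F) * (A : Matrix I4 I4 F)) = W (A : Matrix I4 I4 F) * W (A : Matrix I4 I4 F) := by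
  rw [W, W, st_mul]
  have h1 := mul_st A
  have h2 := st_mul_self A
  calc (A : Matrix I4 I4 F) * (A : Matrix I4 I4 F) + st (A : Matrix I4 I4 F) * st (A : Matrix I4 I4 F)
      = (A : Matrix I4 I4 F) * (A : Matrix I4 I4 F) + st (A : Matrix I4 I4 F) * st (A : Matrix I4 I4 F) + (1 + 1) := by
        rw [CharTwo.add_self_eq_zero, add_zero]
    _ = (A : Matrix I4 I4 F) * (A : Matrix I4 I4 F) + st (A : Matrix I4 I4 F) * st (A : Matrix I4 I4 F) +
          ((A : Matrix I4 I4 F) * st (A : Matrix I4 I4 F) + st (A : Matrix I4 I4 F) * (A : Matrix I4 I4 F)) := by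
        rw [h1, h2]
    _ = _ := by noncomm_ring

/-- `c1 a = 0`, `a` of odd order: `a + a⁻¹` is scalar -/
theorem W_scal {a : Matrix.symplecticGroup (Fin 2) F} (ha : Odd (orderOf a)) (h : c1 a = 0) :
    ∃ μ : F, W (a : Matrix I4 I4 F) = μ • (1 : Matrix I4 I4 F) ∧ c2 a = μ * μ := by
  obtain ⟨k, hk⟩ := exists_sqrt ha
  set b := a ^ k with hb
  have h1 : c1 b = 0 := by
    rw [hk, c1_sq] at h
    exact mul_self_eq_zero.1 h
  refine ⟨c2 b, ?_, by rw [hk, c2_sq]⟩
  rw [hk]
  change W ((b : Matrix I4 I4 F) * (b : Matrix I4 I4 F)) = _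
  rw [W_mul_self, W_sq'', h1, zero_smul, zero_add]

theorem eq_one_of_W {a : Matrix.symplecticGroup (Fin 2) F} (ha : Odd (orderOf a))
    (h : W (a : Matrix I4 I4 F) = 0) : a = 1 := by
  have h1 : (a : Matrix I4 I4 F) = st (a : Matrix I4 I4 F) := CharTwo.add_eq_zero.1 h
  have h2 : a = a⁻¹ := Subtype.ext (by rw [coe_inv]; exact h1)
  obtain ⟨k, hk⟩ := exists_sqrt ha
  have h3 : a * a = 1 := by
    nth_rewrite 2 [h2]
    exact mul_inv_cancel a
  rw [hk, ← pow_add, ← two_mul, pow_mul, sq, h3, one_pow]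

/-- the element `a b` of `A` -/
theorem W_idem {x : Matrix.symplecticGroup (Fin 2) F} {f : Matrix I4 I4 F} {μ : F} (hx : Odd (orderOf x))
    (h : c1 x * c2 x = 0) (hf : f ≠ 0) (hμ : μ ≠ 0) (hxf : W (x : Matrix I4 I4 F) * f = μ • f) :
    W (x : Matrix I4 I4 F) * W (x : Matrix I4 I4 F) = μ • W (x : Matrix I4 I4 F) := by
  have key : ∀ c d : F, c • f = d • f → c = d := by
    intro c d h1
    by_contra hne
    apply hf
    have h2 : (c - d) • f = 0 := by rw [sub_smul, h1, sub_self]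
    exact (smul_eq_zero.1 h2).resolve_left (sub_ne_zero.2 hne)
  rcases mul_eq_zero.1 h with h1 | h1
  · obtain ⟨ρ, h2, -⟩ := W_scal hx h1
    rw [h2, smul_mul_assoc, one_mul] at hxf
    have h3 := key _ _ hxf
    rw [h2, h3, smul_mul_assoc, one_mul]
  · have h2 := W_sq'' x
    rw [h1, zero_smul, add_zero] at h2
    have h3 : W (x : Matrix I4 I4 F) * W (x : Matrix I4 I4 F) * f = (μ * μ) • f := by
      rw [mul_assoc, hxf, mul_smul_comm, hxf, smul_smul]
    rw [h2, smul_mul_assoc, hxf, smul_smul] at h3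
    have h4 := key _ _ h3
    have h5 : c1 x = μ := mul_right_cancel₀ hμ h4
    rw [h2, h5]

/-- the exceptional configuration -/
structure Exc (a b : Matrix.symplecticGroup (Fin 2) F) : Prop where
  comm : (a : Matrix I4 I4 F) * (b : Matrix I4 I4 F) = (b : Matrix I4 I4 F) * (a : Matrix I4 I4 F)
  Wa : W (a : Matrix I4 I4 F) = 1
  Wb : W (b : Matrix I4 I4 F) * W (b : Matrix I4 I4 F) = W (b : Matrix I4 I4 F)
  tb : (b : Matrix I4 I4 F).trace = 1

theorem exc_of {a b : Matrix.symplecticGroup (Fin 2) F} (hab : a * b = b * a) (ha : Odd (orderOf a))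
    (hb : Odd (orderOf b)) (hx : Odd (orderOf (a * b))) (hy : Odd (orderOf (a * b⁻¹))) (ha1 : a ≠ 1) (hb1 : b ≠ 1)
    (h1a : c1 a = 0) (h2b : c2 b = 0) (hcx : c1 (a * b) * c2 (a * b) = 0) (hcy : c1 (a * b⁻¹) * c2 (a * b⁻¹) = 0) :
    Exc a b := by
  obtain ⟨μ, hWa, -⟩ := W_scal ha h1a
  have hμ : μ ≠ 0 := by
    rintro rfl
    rw [zero_smul] at hWa
    exact ha1 (eq_one_of_W ha hWa)
  have hWb := W_sq'' b
  rw [h2b, zero_smul, add_zero] at hWb
  have hWb0 : W (b : Matrix I4 I4 F) ≠ 0 := fun h => hb1 (eq_one_of_W hb h)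
  have hν : c1 b ≠ 0 := by
    intro h0
    obtain ⟨ρ, h2, h3⟩ := W_scal hb h0
    rw [h2b] at h3
    rw [mul_self_eq_zero.1 h3.symm, zero_smul] at h2
    exact hWb0 h2
  set ν := c1 b with hνd
  set A : Matrix I4 I4 F := (a : Matrix I4 I4 F) with hA
  set B : Matrix I4 I4 F := (b : Matrix I4 I4 F) with hB
  set w := W B with hw
  have hcomm : A * B = B * A := congrArg Subtype.val hab
  have hcomm' : A * st B = st B * A := comm_st hcomm
  -- the idempotent `f`
  set f : Matrix I4 I4 F := 1 + ν⁻¹ • w with hf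
  have hwf : w * f = 0 := by
    rw [hf, mul_add, mul_one, mul_smul_comm, hWb, smul_smul, inv_mul_cancel₀ hν, one_smul]
    exact CharTwo.add_self_eq_zero _
  have hf0 : f ≠ 0 := by
    intro h0
    have h1 : (1 : Matrix I4 I4 F) = ν⁻¹ • w := CharTwo.add_eq_zero.1 h0
    have h2 : w = ν • (1 : Matrix I4 I4 F) := by rw [h1, smul_smul, mul_inv_cancel₀ hν, one_smul]
    exact hν (trace_eq_zero h2)
  have hBB : B * st B = 1 := mul_st b
  have hBB' : st B * B = 1 := st_mul_self b
  have hB2 : B * B * f = f := by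
    have h1 : B * B = B * w + 1 := by
      rw [hw, W, mul_add, hBB, add_assoc, CharTwo.add_self_eq_zero, add_zero]
    rw [h1, add_mul, mul_assoc, hwf, mul_zero, zero_add, one_mul]
  have hBf : B * f = f := by
    obtain ⟨k, hk⟩ := exists_sqrt hb
    have h1 : B = (B * B) ^ k := by
      have h2 : b = (b * b) ^ k := by
        rw [← sq, ← pow_mul, mul_comm 2 k, pow_mul, sq]
        exact hk
      have := congrArg Subtype.val h2
      rw [SubmonoidClass.coe_pow, Submonoid.coe_mul] at this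
      exact this
    have h3 : ∀ m : ℕ, (B * B) ^ m * f = f := by
      intro m
      induction m with
      | zero => rw [pow_zero, one_mul]
      | succ m ih => rw [pow_succ, mul_assoc, hB2, ih]
    rw [h1]
    exact h3 k
  have hBf' : st B * f = f := by
    nth_rewrite 1 [← hBf]
    rw [← mul_assoc, hBB', one_mul]
  have hsf : st f = f := by rw [hf, st_add, st_one, st_smul, hw, st_W]
  -- the two elements
  have hx1 : ((a * b : Matrix.symplecticGroup (Fin 2) F) : Matrix I4 I4 F) = A * B := rfl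
  have hy1 : ((a * b⁻¹ : Matrix.symplecticGroup (Fin 2) F) : Matrix I4 I4 F) = A * st B := by
    rw [Submonoid.coe_mul, coe_inv]
  have hsA : st A * B = B * st A := (comm_st (v := a) hcomm.symm).symm
  have hss : st A * st B = st B * st A := by
    have h := congrArg st hcomm
    rw [st_mul, st_mul] at h
    exact h.symm
  have hAA : A * st A = 1 := mul_st a
  have hAA' : st A * A = 1 := st_mul_self a
  have hP : W (A * B) = A * B + st B * st A := by
    rw [W, st_mul]
  have hQ : W (A * st B) = A * st B + B * st A := by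
    rw [W, st_mul, st_st]
  have hPf : W (A * B) * f = μ • f := by
    rw [hP, ← hss, add_mul, mul_assoc, mul_assoc, hBf, hBf', ← add_mul]
    change W A * f = _
    rw [hWa, smul_mul_assoc, one_mul]
  have hQf : W (A * st B) * f = μ • f := by
    rw [hQ, ← hsA, add_mul, mul_assoc, mul_assoc, hBf, hBf', ← add_mul]
    change W A * f = _
    rw [hWa, smul_mul_assoc, one_mul]
  have hP2 := W_idem hx hcx hf0 hμ (by rw [hx1]; exact hPf)
  have hQ2 := W_idem hy hcy hf0 hμ (by rw [hy1]; exact hQf)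
  rw [hx1] at hP2
  rw [hy1] at hQ2
  have hwA : w * A = A * w := by rw [hw, W, add_mul, mul_add, hcomm, hcomm']
  have hsum : W (A * B) + W (A * st B) = μ • w := by
    rw [hP, hQ]
    have h1 : A * B + st B * st A + (A * st B + B * st A) = A * w + w * st A := by
      rw [hw, W]; noncomm_ring
    rw [h1, ← hwA, ← mul_add]
    change w * W A = _
    rw [hWa, mul_smul_comm, mul_one]
  have hPQ0 : W (A * B) * W (A * st B) = A * A + st A * st A + (B * B + st B * st B) := by
      rw [hP, hQ]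
      have e1 : A * B * (A * st B) = A * A := by
        calc A * B * (A * st B) = A * (B * A) * st B := by simp only [mul_assoc]
          _ = A * A * (B * st B) := by rw [← hcomm]; simp only [mul_assoc]
          _ = A * A := by rw [hBB, mul_one]
      have e2 : A * B * (B * st A) = B * B := by
        calc A * B * (B * st A) = A * (B * (st A * B)) := by rw [hsA]; simp only [mul_assoc]
          _ = A * ((B * st A) * B) := by simp only [mul_assoc]
          _ = (A * st A) * (B * B) := by rw [← hsA]; simp only [mul_assoc]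
          _ = B * B := by rw [hAA, one_mul]
      have e3 : st B * st A * (A * st B) = st B * st B := by
        calc st B * st A * (A * st B) = st B * (st A * A) * st B := by simp only [mul_assoc]
          _ = st B * st B := by rw [hAA', mul_one]
      have e4 : st B * st A * (B * st A) = st A * st A := by
        calc st B * st A * (B * st A) = st B * (st A * B) * st A := by simp only [mul_assoc]
          _ = (st B * B) * (st A * st A) := by rw [hsA]; simp only [mul_assoc]
          _ = st A * st A := by rw [hBB', one_mul]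
      rw [add_mul, mul_add, mul_add, e1, e2, e3, e4]
      abel
  have hPQ : W (A * B) * W (A * st B) = (μ * μ) • (1 : Matrix I4 I4 F) + ν • w := by
    have h2 : A * A + st A * st A = (μ * μ) • (1 : Matrix I4 I4 F) := by
      have h3 := W_mul_self a
      rw [← hA, hWa, W, st_mul] at h3
      rw [h3, smul_mul_assoc, one_mul, smul_smul]
    have h3 : B * B + st B * st B = ν • w := by
      have h4 := W_mul_self b
      rw [← hB, ← hw, hWb, W, st_mul] at h4
      exact h4
    rw [hPQ0, h2, h3]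
  have hQP : W (A * st B) * W (A * B) = W (A * B) * W (A * st B) := by
    have h1 : W (A * st B) * W (A * B) = A * A + st A * st A + (B * B + st B * st B) := by
      rw [hP, hQ]
      have e1 : A * st B * (A * B) = A * A := by
        calc A * st B * (A * B) = A * (st B * A) * B := by simp only [mul_assoc]
          _ = A * A * (st B * B) := by rw [← hcomm']; simp only [mul_assoc]
          _ = A * A := by rw [hBB', mul_one]
      have e2 : A * st B * (st B * st A) = st B * st B := by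
        calc A * st B * (st B * st A) = A * (st B * (st A * st B)) := by rw [hss]; simp only [mul_assoc]
          _ = A * ((st B * st A) * st B) := by simp only [mul_assoc]
          _ = (A * st A) * (st B * st B) := by rw [← hss]; simp only [mul_assoc]
          _ = st B * st B := by rw [hAA, one_mul]
      have e3 : B * st A * (A * B) = B * B := by
        calc B * st A * (A * B) = B * (st A * A) * B := by simp only [mul_assoc]
          _ = B * B := by rw [hAA', mul_one]
      have e4 : B * st A * (st B * st A) = st A * st A := by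
        calc B * st A * (st B * st A) = B * (st A * st B) * st A := by simp only [mul_assoc]
          _ = (B * st B) * (st A * st A) := by rw [hss]; simp only [mul_assoc]
          _ = st A * st A := by rw [hBB, one_mul]
      rw [add_mul, mul_add, mul_add, e1, e2, e3, e4]
      abel
    rw [h1, hPQ0]
  have hkey : ∀ c d : F, c • w = d • w → c = d := by
    intro c d h1
    by_contra hne
    apply hWb0
    have h2 : (c - d) • w = 0 := by rw [sub_smul, h1, sub_self]
    exact (smul_eq_zero.1 h2).resolve_left (sub_ne_zero.2 hne)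
  set P := W (A * B) with hPd
  set Q := W (A * st B) with hQd
  have hν1 : ν = 1 := by
    have h1 : (P + Q) * (P + Q) = μ • (P + Q) := by
      have h2 : (P + Q) * (P + Q) = P * P + Q * Q + (P * Q + Q * P) := by noncomm_ring
      rw [h2, hQP, CharTwo.add_self_eq_zero, add_zero, hP2, hQ2, smul_add]
    rw [hsum, smul_mul_smul_comm, hWb, smul_smul, smul_smul] at h1
    have h3 := hkey _ _ h1
    exact mul_left_cancel₀ (mul_ne_zero hμ hμ) (by rw [h3, mul_one])
  have hμ1 : μ = 1 := by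
    have h1 : (P * Q) * (P * Q) = (μ * μ) • (P * Q) := by
      calc (P * Q) * (P * Q) = P * (Q * P) * Q := by simp only [mul_assoc]
        _ = (P * P) * (Q * Q) := by rw [hQP]; simp only [mul_assoc]
        _ = _ := by rw [hP2, hQ2, smul_mul_smul_comm]
    rw [hPQ, hν1, one_smul] at h1
    rw [hν1, one_smul] at hWb
    have h2 : ((μ * μ) • (1 : Matrix I4 I4 F) + w) * ((μ * μ) • (1 : Matrix I4 I4 F) + w) =
        (μ * μ * (μ * μ)) • (1 : Matrix I4 I4 F) + w := by
      have h3 : ((μ * μ) • (1 : Matrix I4 I4 F) + w) * ((μ * μ) • (1 : Matrix I4 I4 F) + w) =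
        (μ * μ * (μ * μ)) • (1 : Matrix I4 I4 F) + ((μ * μ) • w + (μ * μ) • w) + w * w := by
        simp only [add_mul, mul_add, smul_mul_assoc, mul_smul_comm, one_mul, mul_one]
        module
      rw [h3, hWb, CharTwo.add_self_eq_zero, add_zero]
    rw [h2, smul_add, smul_smul] at h1
    have h3 := hkey 1 (μ * μ) (by rw [one_smul]; exact add_left_cancel h1)
    have h4 : (μ - 1) * (μ - 1) = 0 := by
      have h5 : (2 : F) = 0 := CharTwo.two_eq_zero
      linear_combination (-1 : F) * h3 + (1 - μ) * h5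
    exact sub_eq_zero.1 (mul_self_eq_zero.1 h4)
  refine ⟨hcomm, ?_, ?_, hν1⟩
  · rw [← hA, hWa, hμ1, one_smul]
  · rw [← hB, ← hw, hWb, hν1, one_smul]

/-- the regular element in the exceptional case -/
theorem Exc.exists_reg {a b : Matrix.symplecticGroup (Fin 2) F} (h : Exc a b) {l : F} (hl0 : l ≠ 0) (hl1 : l ≠ 1)
    (h3 : ∀ x : F, x ^ 3 = 1 → x = 1) :
    ∃ v : Matrix.symplecticGroup (Fin 2) F, Reg v ∧ ∀ X : Matrix I4 I4 F, X * a = a * X → X * b = b * X →
      X * v = v * X := by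
  obtain ⟨hcomm, hWa, hWb, htb⟩ := h
  set A : Matrix I4 I4 F := (a : Matrix I4 I4 F) with hA
  set B : Matrix I4 I4 F := (b : Matrix I4 I4 F) with hB
  set e := W B with he
  have hAA : A * st A = 1 := mul_st a
  have hBB : B * st B = 1 := mul_st b
  have hse : st e = e := st_W B
  set f : Matrix I4 I4 F := 1 + e with hf
  have hsf : st f = f := by rw [hf, st_add, st_one, hse]
  have hef : e * f = 0 := by
    rw [hf, mul_add, mul_one, hWb]; exact CharTwo.add_self_eq_zero _
  have hfe : f * e = 0 := by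
    rw [hf, add_mul, one_mul, hWb]; exact CharTwo.add_self_eq_zero _
  have hff : f * f = f := by
    nth_rewrite 1 [hf]
    rw [add_mul, one_mul, hef, add_zero]
  have hfe1 : f + e = 1 := by
    rw [hf, add_assoc, CharTwo.add_self_eq_zero, add_zero]
  have hD : 1 + l + l ^ 2 ≠ 0 := by
    intro h0
    apply hl1
    apply h3
    have h2 : (2 : F) = 0 := CharTwo.two_eq_zero
    linear_combination (l - 1) * h0
  set D := 1 + l + l ^ 2 with hDd
  -- `z`
  set z : Matrix I4 I4 F := (D⁻¹ * (1 + l ^ 2)) • (1 : Matrix I4 I4 F) + (D⁻¹ * l ^ 2) • A with hz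
  have hstz : st z = (D⁻¹ * (1 + l ^ 2)) • (1 : Matrix I4 I4 F) + (D⁻¹ * l ^ 2) • st A := by
    rw [hz, st_add, st_smul, st_smul, st_one]
  have hzz : z * st z = 1 := by
    rw [hstz, hz]
    have h1 : ((D⁻¹ * (1 + l ^ 2)) • (1 : Matrix I4 I4 F) + (D⁻¹ * l ^ 2) • A) *
      ((D⁻¹ * (1 + l ^ 2)) • (1 : Matrix I4 I4 F) + (D⁻¹ * l ^ 2) • st A) =
      ((D⁻¹ * (1 + l ^ 2)) * (D⁻¹ * (1 + l ^ 2))) • (1 : Matrix I4 I4 F) + ((D⁻¹ * (1 + l ^ 2)) * (D⁻¹ * l ^ 2)) • (A + st A)
        + ((D⁻¹ * l ^ 2) * (D⁻¹ * l ^ 2)) • (A * st A) := by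
      simp only [add_mul, mul_add, smul_mul_assoc, mul_smul_comm, one_mul, mul_one]
      module
    rw [h1, hAA]
    change _ + _ • W A + _ = _
    rw [hWa, ← add_smul, ← add_smul]
    have h2 : D⁻¹ * (1 + l ^ 2) * (D⁻¹ * (1 + l ^ 2)) + D⁻¹ * (1 + l ^ 2) * (D⁻¹ * l ^ 2) + D⁻¹ * l ^ 2 * (D⁻¹ * l ^ 2) = 1 := by
      have h5 : (2 : F) = 0 := CharTwo.two_eq_zero
      have h6 : D⁻¹ * (1 + l ^ 2) * (D⁻¹ * (1 + l ^ 2)) + D⁻¹ * (1 + l ^ 2) * (D⁻¹ * l ^ 2) + D⁻¹ * l ^ 2 * (D⁻¹ * l ^ 2) =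
        (D⁻¹ * D) * (D⁻¹ * D) := by
        rw [hDd]
        linear_combination ((1 + l + l ^ 2)⁻¹) ^ 2 * (l ^ 4 - l - l ^ 3) * h5
      rw [h6, inv_mul_cancel₀ hD, mul_one]
    rw [h2, one_smul]
  have hAB' : A * st B = st B * A := comm_st (v := b) hcomm
  have hAe : A * e = e * A := by rw [he, W, mul_add, add_mul, hcomm, hAB']
  have hze : z * e = e * z := by
    rw [hz]
    simp only [add_mul, mul_add, smul_mul_assoc, mul_smul_comm, one_mul, mul_one, hAe]
  have hzf : z * f = f * z := by rw [hf, mul_add z 1 e, add_mul 1 e z, mul_one z, one_mul z, hze]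
  have hBe : B * e = e * B := (W_self_comm b).symm
  set V : Matrix I4 I4 F := z * f + B * e with hV
  have hsV : st V = f * st z + e * st B := by rw [hV, st_add, st_mul, st_mul, hsf, hse]
  have hVV : V * st V = 1 := by
    rw [hsV, hV]
    have h1 : (z * f + B * e) * (f * st z + e * st B) = z * (f * f) * st z + z * (f * e) * st B + B * (e * f) * st z
        + B * (e * e) * st B := by noncomm_ring
    rw [h1, hff, hfe, hef, hWb, mul_zero, zero_mul, mul_zero, zero_mul, add_zero, add_zero, hzf, hBe, mul_assoc, mul_assoc,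
      hzz, hBB, mul_one, mul_one, hfe1]
  set τ := D⁻¹ * l ^ 2 with hτ
  have hWz : z + st z = τ • (1 : Matrix I4 I4 F) := by
    rw [hstz, hz]
    have h1 : (D⁻¹ * (1 + l ^ 2)) • (1 : Matrix I4 I4 F) + τ • A + ((D⁻¹ * (1 + l ^ 2)) • (1 : Matrix I4 I4 F) + τ • st A)
      = ((D⁻¹ * (1 + l ^ 2)) • (1 : Matrix I4 I4 F) + (D⁻¹ * (1 + l ^ 2)) • (1 : Matrix I4 I4 F)) + τ • (A + st A) := by module
    rw [h1, CharTwo.add_self_eq_zero, zero_add]
    change τ • W A = _
    rw [hWa]
  have hWV : W V = τ • (1 : Matrix I4 I4 F) + (τ + 1) • e := by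
    rw [W, hsV, hV, hzf, hBe]
    have h1 : f * z + e * B + (f * st z + e * st B) = f * (z + st z) + e * (B + st B) := by noncomm_ring
    rw [h1, hWz]
    change _ + e * W B = _
    rw [← he, hWb, mul_smul_comm, mul_one, hf]
    module
  have hτ0 : τ ≠ 0 := mul_ne_zero (inv_ne_zero hD) (pow_ne_zero 2 hl0)
  have hτ1 : τ + 1 ≠ 0 := by
    intro h0
    have h1 : τ = 1 := CharTwo.add_eq_zero.1 h0
    apply hl1
    have h2 : D * τ = D := by rw [h1, mul_one]
    rw [hτ, mul_inv_cancel_left₀ hD, hDd] at h2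
    have h5 : (2 : F) = 0 := CharTwo.two_eq_zero
    linear_combination (-1 : F) * h2 - h5
  have htV : V.trace = τ + 1 := by
    rw [trace_W, hWV]
    have h1 := trace_W B
    rw [htb, ← he] at h1
    simp only [Matrix.add_apply, Matrix.smul_apply, Matrix.one_apply, if_true, smul_eq_mul, mul_one]
    have h5 : (2 : F) = 0 := CharTwo.two_eq_zero
    linear_combination (-(τ + 1)) * h1 + τ * h5
  let v : Matrix.symplecticGroup (Fin 2) F := ⟨V, (mem_iff V).2 hVV⟩
  refine ⟨v, ⟨?_, ?_⟩, ?_⟩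
  · change V.trace ≠ 0
    rw [htV]
    exact hτ1
  · have h1 := W_sq' v
    change W V * W V = V.trace • W V + _ at h1
    have h2 : W V * W V = (τ * τ) • (1 : Matrix I4 I4 F) + ((τ + 1) * (τ + 1)) • e := by
      rw [hWV]
      have h3 : (τ • (1 : Matrix I4 I4 F) + (τ + 1) • e) * (τ • (1 : Matrix I4 I4 F) + (τ + 1) • e) =
        (τ * τ) • (1 : Matrix I4 I4 F) + ((τ * (τ + 1)) • e + (τ * (τ + 1)) • e) + ((τ + 1) * (τ + 1)) • (e * e) := by
        simp only [add_mul, mul_add, smul_mul_assoc, mul_smul_comm, one_mul, mul_one]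
        module
      rw [h3, hWb, CharTwo.add_self_eq_zero, add_zero]
    rw [h2, htV, hWV] at h1
    intro h0
    rw [h0, zero_smul, add_zero, smul_add, smul_smul, smul_smul] at h1
    have h3 := add_right_cancel h1
    have h4 := congrFun (congrFun h3 (.inl 0)) (.inl 0)
    simp only [Matrix.smul_apply, Matrix.one_apply, if_true, smul_eq_mul, mul_one] at h4
    apply hτ0
    linear_combination (-1 : F) * h4
  · intro X hXa hXb
    have hXe : X * e = e * X := by
      rw [he, W, mul_add, add_mul, hXb, comm_st (v := b) hXb]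
    have hXf : X * f = f * X := by rw [hf, mul_add X 1 e, add_mul 1 e X, hXe, mul_one X, one_mul X]
    have hXz : X * z = z * X := by
      rw [hz]
      simp only [add_mul, mul_add, smul_mul_assoc, mul_smul_comm, one_mul, mul_one, hXa]
    change X * V = V * X
    rw [hV, mul_add X (z * f) (B * e), add_mul (z * f) (B * e) X, ← mul_assoc X z f, hXz, mul_assoc z X f, hXf,
      ← mul_assoc z f X, ← mul_assoc X B e, hXb, mul_assoc B X e, hXe, ← mul_assoc B e X]

end Cfsg.Agent.H88.FC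
end

-- part: H88/FC/Lam
section
/-!
# The second element `v₂ = (1 + λ v)(1 + λ v⁻¹)⁻¹` (helper88, S5764, SP4G)
-/

set_option autoImplicit false
set_option linter.unusedSectionVars false

namespace Cfsg.Agent.H88.FC

open Matrix Cfsg.Agent.ClassicalGeometry.Sp4Graph

variable {F : Type*} [Field F] [CharP F 2]

theorem exists_v2 {v : Matrix.symplecticGroup (Fin 2) F} {l : F}
    (h : (1 + l ^ 2) ^ 2 + (v : Matrix I4 I4 F).trace * (l * (1 + l ^ 2)) + (graphHom F v : Matrix I4 I4 F).trace * l ^ 2 ≠ 0) :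
    ∃ v₂ : Matrix.symplecticGroup (Fin 2) F, v₂ * v = v * v₂ ∧
      (v₂ : Matrix I4 I4 F) * (1 + l • st (v : Matrix I4 I4 F)) = 1 + l • (v : Matrix I4 I4 F) := by
  have hw2 := W_sq' v
  set V : Matrix I4 I4 F := (v : Matrix I4 I4 F) with hV
  set k₁ := V.trace with hk1
  set k₂ := (graphHom F v : Matrix I4 I4 F).trace with hk2
  set H := (1 + l ^ 2) ^ 2 + k₁ * (l * (1 + l ^ 2)) + k₂ * l ^ 2 with hH
  set w := W V with hw
  set m : Matrix I4 I4 F := 1 + l • V with hm
  set m' : Matrix I4 I4 F := 1 + l • st V with hm'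
  have hsm : st m = m' := by rw [hm, st_add, st_one, st_smul]
  have hsm' : st m' = m := by rw [← hsm, st_st]
  have hVV : V * st V = 1 := mul_st v
  have hVV' : st V * V = 1 := st_mul_self v
  have hmm : m * m' = (1 + l ^ 2) • (1 : Matrix I4 I4 F) + l • w := by
    rw [hm, hm', hw, W]
    have h1 : (1 + l • V) * (1 + l • st V) = 1 + l • (V + st V) + (l * l) • (V * st V) := by
      simp only [add_mul, mul_add, smul_mul_assoc, mul_smul_comm, one_mul, mul_one]
      module
    rw [h1, hVV]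
    module
  have hmm' : m' * m = (1 + l ^ 2) • (1 : Matrix I4 I4 F) + l • w := by
    rw [hm, hm', hw, W]
    have h1 : (1 + l • st V) * (1 + l • V) = 1 + l • (V + st V) + (l * l) • (st V * V) := by
      simp only [add_mul, mul_add, smul_mul_assoc, mul_smul_comm, one_mul, mul_one]
      module
    rw [h1, hVV']
    module
  set u : Matrix I4 I4 F := H⁻¹ • ((1 + l ^ 2 + l * k₁) • (1 : Matrix I4 I4 F) + l • w) with hu
  have huK : InK w u := by
    refine InK.smul _ ?_
    exact ⟨_, _, rfl⟩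
  have hDu : (m * m') * u = 1 := by
    have h1 : ((1 + l ^ 2) • (1 : Matrix I4 I4 F) + l • w) * ((1 + l ^ 2 + l * k₁) • (1 : Matrix I4 I4 F) + l • w) =
        ((1 + l ^ 2) * (1 + l ^ 2 + l * k₁)) • (1 : Matrix I4 I4 F) +
          ((1 + l ^ 2) * l + l * (1 + l ^ 2 + l * k₁)) • w + (l * l) • (w * w) := by
      simp only [add_mul, mul_add, smul_mul_assoc, mul_smul_comm, one_mul, mul_one]
      module
    have h2 : ((1 + l ^ 2) * l + l * (1 + l ^ 2 + l * k₁)) = l * l * k₁ := by
      have h5 : (2 : F) = 0 := CharTwo.two_eq_zero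
      linear_combination ((1 + l ^ 2) * l) * h5
    have h3 : ((1 + l ^ 2) * (1 + l ^ 2 + l * k₁)) • (1 : Matrix I4 I4 F) + (l * l * k₁) • w +
        (l * l) • (k₁ • w + k₂ • (1 : Matrix I4 I4 F)) = H • (1 : Matrix I4 I4 F) +
          ((l * l * k₁) • w + (l * l * k₁) • w) := by
      rw [hH]; module
    have h4 : ((1 + l ^ 2) • (1 : Matrix I4 I4 F) + l • w) * ((1 + l ^ 2 + l * k₁) • (1 : Matrix I4 I4 F) + l • w) =
        H • (1 : Matrix I4 I4 F) := by
      rw [h1, hw2, h2, h3, CharTwo.add_self_eq_zero, add_zero]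
    rw [hmm, hu, mul_smul_comm, h4, smul_smul, inv_mul_cancel₀ h, one_smul]
  have hwm : w * m = m * w := by
    rw [hm]
    simp only [mul_add, add_mul, mul_smul_comm, smul_mul_assoc, mul_one, one_mul]
    rw [hw, hV, W_self_comm]
  have hwm' : w * m' = m' * w := by
    rw [hm']
    simp only [mul_add, add_mul, mul_smul_comm, smul_mul_assoc, mul_one, one_mul]
    rw [hw, hV, W_st_comm]
  have hum : u * m = m * u := huK.comm_of hwm
  have hum' : u * m' = m' * u := huK.comm_of hwm'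
  have hsu : st u = u := huK.st (st_W V)
  clear_value u m m'
  have hc : m' * m = m * m' := by rw [hmm, hmm']
  have hmem : (m * m * u) * st (m * m * u) = 1 := by
    rw [st_mul, st_mul, hsu, hsm]
    calc m * m * u * (u * (m' * m')) = m * (m * (u * u)) * (m' * m') := by simp only [mul_assoc]
      _ = m * m * m' * m' * (u * u) := by
        have e0 : Commute u m' := hum'
        have e1 : (u * u) * (m' * m') = (m' * m') * (u * u) :=
          ((e0.mul_right e0).mul_left (e0.mul_right e0)).eq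
        calc m * (m * (u * u)) * (m' * m') = m * m * ((u * u) * (m' * m')) := by simp only [mul_assoc]
          _ = _ := by rw [e1]; simp only [mul_assoc]
      _ = (m * m') * (m * m') * (u * u) := by
        have e2 : m * m * m' * m' = (m * m') * (m * m') := by
          calc m * m * m' * m' = m * (m * m') * m' := by simp only [mul_assoc]
            _ = m * (m' * m) * m' := by rw [hc]
            _ = _ := by simp only [mul_assoc]
        rw [e2]
      _ = (m * m') * ((m * m') * u) * u := by simp only [mul_assoc]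
      _ = 1 := by rw [hDu, mul_one, hDu]
  refine ⟨⟨m * m * u, (mem_iff _).2 hmem⟩, ?_, ?_⟩
  · apply Subtype.ext
    change m * m * u * V = V * (m * m * u)
    have h1 : m * V = V * m := by
      rw [hm, mul_add, add_mul, mul_one, one_mul, mul_smul_comm, smul_mul_assoc]
    have h2 : u * V = V * u := huK.comm_of (W_self_comm v)
    rw [mul_assoc, h2, ← mul_assoc, mul_assoc m m V, h1, ← mul_assoc, h1]
    simp only [mul_assoc]
  · change m * m * u * m' = m
    rw [mul_assoc, hum', mul_assoc, ← mul_assoc m m', hDu, mul_one]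

/-- a generator of `F` avoiding the eigenvalues -/
theorem exists_lam [Finite F] (hq : 4 ≤ Nat.card F) (h3 : ∀ x : F, x ^ 3 = 1 → x = 1) {k₁ k₂ : F} (hk : k₁ ≠ 0) :
    ∃ l : F, (1 + l ^ 2) ^ 2 + k₁ * (l * (1 + l ^ 2)) + k₂ * l ^ 2 ≠ 0 ∧
      ∀ φ : F ≃+* F, φ l = l → ∀ a, φ a = a := by
  have h2 : (2 : F) = 0 := CharTwo.two_eq_zero
  obtain ⟨g, hg⟩ := IsCyclic.exists_generator (α := Fˣ)
  have hfix : ∀ φ : F ≃+* F, φ g = g → ∀ a, φ a = a := by
    intro φ hφ a
    by_cases ha : a = 0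
    · rw [ha, map_zero]
    · obtain ⟨k, hk⟩ := Subgroup.mem_zpowers_iff.1 (hg (Units.mk0 a ha))
      have h4 : a = (g : F) ^ k := by
        have := congrArg Units.val hk
        rw [Units.val_zpow_eq_zpow_val] at this
        exact this.symm
      rw [h4, map_zpow₀, hφ]
  have hg0 : (g : F) ≠ 0 := g.ne_zero
  have hsq : ∀ (φ : F ≃+* F) (x : F), φ (x ^ 2) = x ^ 2 → φ x = x := by
    intro φ x hx
    rw [map_pow] at hx
    exact CharTwo.sq_injective hx
  by_contra hcon
  push Not at hcon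
  have key : ∀ l : F, (∀ φ : F ≃+* F, φ l = l → ∀ a, φ a = a) →
      (1 + l ^ 2) ^ 2 + k₁ * (l * (1 + l ^ 2)) + k₂ * l ^ 2 = 0 := by
    intro l hl
    by_contra hne
    obtain ⟨φ, h4, a, h5⟩ := hcon l hne
    exact h5 (hl φ h4 a)
  have e1 := key g hfix
  have e2 := key (g ^ 2) fun φ h => hfix φ (hsq φ _ h)
  have e3 := key (g ^ 4) fun φ h => hfix φ (hsq φ _ (hsq φ _ (by rw [← pow_mul]; exact h)))
  set x : F := (g : F) with hx
  set κ : F := x + x⁻¹ with hκ
  have hP : ∀ l : F, l ≠ 0 → (1 + l ^ 2) ^ 2 + k₁ * (l * (1 + l ^ 2)) + k₂ * l ^ 2 = 0 →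
      (l + l⁻¹) ^ 2 + k₁ * (l + l⁻¹) + k₂ = 0 := by
    intro l hl h
    have h4 : (l + l⁻¹) ^ 2 + k₁ * (l + l⁻¹) + k₂ =
      (l⁻¹) ^ 2 * ((1 + l ^ 2) ^ 2 + k₁ * (l * (1 + l ^ 2)) + k₂ * l ^ 2) := by
      field_simp
      ring
    rw [h4, h, mul_zero]
  have f1 := hP x hg0 e1
  have f2 := hP (x ^ 2) (pow_ne_zero 2 hg0) e2
  have f3 := hP (x ^ 4) (pow_ne_zero 4 hg0) e3
  have g2 : x ^ 2 + (x ^ 2)⁻¹ = κ ^ 2 := by
    rw [hκ, CharTwo.add_sq, inv_pow]
  have g3 : x ^ 4 + (x ^ 4)⁻¹ = κ ^ 4 := by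
    rw [show (4 : ℕ) = 2 * 2 from rfl, pow_mul, pow_mul, ← g2, CharTwo.add_sq, inv_pow]
  rw [← hκ] at f1
  rw [g2] at f2
  rw [g3] at f3
  have hg1 : x ≠ 1 := by
    intro h1
    have h4 : ∀ y : Fˣ, y = 1 := by
      intro y
      obtain ⟨k, hk⟩ := Subgroup.mem_zpowers_iff.1 (hg y)
      have h5 : g = 1 := Units.ext h1
      rw [← hk, h5, _root_.one_zpow]
    have h5 : Nat.card F ≤ 2 := by
      have : Fintype F := Fintype.ofFinite F
      rw [Nat.card_eq_fintype_card]
      classical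
      have : (Finset.univ : Finset F) ⊆ {0, 1} := by
        intro t _
        by_cases h0 : t = 0
        · simp [h0]
        · have := congrArg Units.val (h4 (Units.mk0 t h0))
          simp only [Units.val_mk0, Units.val_one] at this
          simp [this]
      exact (Finset.card_le_card this).trans (Finset.card_le_two)
    omega
  have hκ0 : κ ≠ 0 := by
    intro h0
    apply hg1
    have h4 : x * κ = x ^ 2 + 1 := by rw [hκ]; field_simp
    rw [h0, mul_zero] at h4
    have h5 : x ^ 2 = 1 ^ 2 := by linear_combination (-1 : F) * h4 - h2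
    exact CharTwo.sq_injective h5
  have hκ1 : κ ≠ 1 := by
    intro h0
    apply hg1
    apply h3
    have h4 : x * κ = x ^ 2 + 1 := by rw [hκ]; field_simp
    rw [h0, mul_one] at h4
    linear_combination (-(x - 1)) * h4 + (x ^ 2 - x) * h2
  have hk1 : k₁ = κ ^ 2 + κ := by
    have h4 : (κ ^ 2 + κ) * (κ ^ 2 + κ + k₁) = 0 := by
      linear_combination f1 + f2 + (κ ^ 3 - k₂) * h2
    rcases mul_eq_zero.1 h4 with h5 | h5
    · exfalso
      rcases mul_eq_zero.1 (show κ * (κ + 1) = 0 by linear_combination h5) with h6 | h6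
      · exact hκ0 h6
      · exact hκ1 (CharTwo.add_eq_zero.1 h6)
    · exact (CharTwo.add_eq_zero.1 h5).symm
  have hk1' : k₁ = k₁ ^ 2 := by
    have h4 : k₁ ^ 2 * (k₁ ^ 2 + k₁) = 0 := by
      have h5 : k₁ ^ 2 = κ ^ 4 + κ ^ 2 := by rw [hk1]; linear_combination (κ ^ 3) * h2
      rw [h5]
      linear_combination f2 + f3 + (κ ^ 6 - k₂) * h2
    rcases mul_eq_zero.1 h4 with h5 | h5
    · exact absurd (pow_eq_zero_iff (two_ne_zero) |>.1 h5) hk
    · exact (CharTwo.add_eq_zero.1 h5).symm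
  have hk11 : k₁ = 1 := by
    have h4 : k₁ * (k₁ - 1) = 0 := by linear_combination (-1 : F) * hk1'
    exact sub_eq_zero.1 ((mul_eq_zero.1 h4).resolve_left hk)
  apply hκ1
  apply h3
  rw [hk11] at hk1
  linear_combination (-(κ - 1)) * hk1 + (κ - 1) * h2

end Cfsg.Agent.H88.FC
end

-- part: H88/FC/Zenkov
section
/-!
# Zenkov's theorem (helper88, S5764, SP4G)

* `zenkov` : `A`, `B` abelian subgroups of a finite group, `A ∩ B` minimal among the `A ∩ B^g`: the normal closure of
  an element of prime power order of `A ∩ B` is a `p`-group;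
* `exists_inf_conj` : an abelian subgroup of a finite nonabelian simple group meets some conjugate trivially.
-/

set_option autoImplicit false

namespace Cfsg.Agent.H88.FC

universe u

/-- **Zenkov.** -/
theorem zenkov (p : ℕ) [Fact p.Prime] (n : ℕ) : ∀ (G : Type u) [Group G] [Finite G], Nat.card G ≤ n →
    ∀ A B : Subgroup G, (∀ a ∈ A, ∀ b ∈ A, a * b = b * a) → (∀ a ∈ B, ∀ b ∈ B, a * b = b * a) →
    (∀ g : G, (∀ a ∈ A, g⁻¹ * a * g ∈ B → a ∈ B) → ∀ a ∈ A, a ∈ B → g⁻¹ * a * g ∈ B) →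
    ∀ x : G, x ∈ A → x ∈ B → (∃ k : ℕ, x ^ p ^ k = 1) → IsPGroup p (Subgroup.normalClosure {x} : Subgroup G) := by
  induction n with
  | zero =>
    intro G _ _ h
    exact absurd h (by simp [Nat.card_pos.ne'])
  | succ n ih =>
    intro G _ _ hn A B hA hB hmin x hxA hxB hx
    have hz : ∀ y : G, (∃ k : ℕ, y ^ p ^ k = 1) → IsPGroup p (Subgroup.zpowers y) := by
      rintro y ⟨k, hk⟩ ⟨z, hz⟩
      obtain ⟨m, rfl⟩ := Subgroup.mem_zpowers_iff.1 hz
      refine ⟨k, Subtype.ext ?_⟩
      change (y ^ m) ^ p ^ k = 1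
      rw [← zpow_natCast, ← zpow_mul, mul_comm, zpow_mul, zpow_natCast, hk, one_zpow]
    let C : G → Subgroup G := fun g => B.map (MulAut.conj g).toMonoidHom
    have hC : ∀ g a : G, a ∈ C g ↔ g⁻¹ * a * g ∈ B := by
      intro g a
      constructor
      · rintro ⟨b, hb, rfl⟩
        change g⁻¹ * (g * b * g⁻¹) * g ∈ B
        simpa [mul_assoc] using hb
      · intro h
        refine ⟨_, h, ?_⟩
        change g * (g⁻¹ * a * g) * g⁻¹ = a
        group
    by_cases hgen : ∃ g : G, A ⊔ C g = ⊤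
    · obtain ⟨g, hg⟩ := hgen
      have hcent : ∀ a : G, a ∈ A → a ∈ C g → ∀ t : G, a * t = t * a := by
        intro a ha1 ha2 t
        have h1 : A ⊔ C g ≤ Subgroup.centralizer {a} := by
          rw [sup_le_iff]
          constructor
          · intro b hb
            rw [Subgroup.mem_centralizer_singleton_iff]
            exact hA b hb a ha1
          · intro b hb
            rw [Subgroup.mem_centralizer_singleton_iff]
            rw [hC] at ha2 hb
            have h2 := hB _ hb _ ha2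
            have h3 : g⁻¹ * (b * a) * g = g⁻¹ * (a * b) * g := by
              calc g⁻¹ * (b * a) * g = g⁻¹ * b * g * (g⁻¹ * a * g) := by group
                _ = _ := by rw [h2]; group
            exact mul_left_cancel (mul_right_cancel h3)
        have h2 : t ∈ Subgroup.centralizer {a} := h1 (by rw [hg]; trivial)
        exact (Subgroup.mem_centralizer_singleton_iff.1 h2).symm
      have h1 : ∀ a ∈ A, g⁻¹ * a * g ∈ B → a ∈ B := by
        intro a ha hb
        have h2 := hcent a ha ((hC g a).2 hb) g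
        rw [mul_assoc, h2, inv_mul_cancel_left] at hb
        exact hb
      have h2 := hmin g h1 x hxA hxB
      have h3 := hcent x hxA ((hC g x).2 h2)
      have h4 : Subgroup.normalClosure {x} ≤ Subgroup.zpowers x := by
        have : (Subgroup.zpowers x).Normal := ⟨fun m hm t => by
          obtain ⟨k, rfl⟩ := Subgroup.mem_zpowers_iff.1 hm
          have h5 : Commute t x := (h3 t).symm
          rw [(h5.zpow_right k).eq, mul_inv_cancel_right]
          exact hm⟩
        apply Subgroup.normalClosure_le_normal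
        rw [Set.singleton_subset_iff]
        exact Subgroup.mem_zpowers x
      exact (hz x hx).to_le h4
    · push Not at hgen
      apply Involutions.BaerSuzuki.baer_suzuki_element
      intro g
      set H : Subgroup G := A ⊔ C g with hH
      have hAH : A ≤ H := le_sup_left
      have hCH : C g ≤ H := le_sup_right
      have hcard : Nat.card H ≤ n := by
        have h1 : Nat.card H < Nat.card G := by
          rw [← Nat.card_congr (Subgroup.topEquiv (G := G)).toEquiv]
          exact lt_of_le_of_ne (Subgroup.card_le_of_le le_top)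
            (fun h => hgen g (Subgroup.eq_of_le_of_card_ge le_top h.ge))
        omega
      have hxH : x ∈ H := hAH hxA
      have hyH : g * x * g⁻¹ ∈ H := by
        apply hCH
        rw [hC]
        simpa [mul_assoc] using hxB
      have h1 := ih H hcard (A.subgroupOf H) (B.subgroupOf H)
        (fun a ha b hb => Subtype.ext (hA _ ha _ hb)) (fun a ha b hb => Subtype.ext (hB _ ha _ hb))
        (fun h h1 a ha hb => by
          refine hmin h ?_ a ha hb
          intro c hc1 hc2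
          exact h1 ⟨c, hAH hc1⟩ hc1 hc2) ⟨x, hxH⟩ hxA hxB (by
            obtain ⟨k, hk⟩ := hx
            exact ⟨k, Subtype.ext hk⟩)
      have h2 : IsPGroup p (Subgroup.zpowers (⟨g * x * g⁻¹, hyH⟩ : H)) := by
        obtain ⟨k, hk⟩ := hx
        rintro ⟨z, hz⟩
        obtain ⟨m, rfl⟩ := Subgroup.mem_zpowers_iff.1 hz
        refine ⟨k, Subtype.ext (Subtype.ext ?_)⟩
        change ((g * x * g⁻¹) ^ m) ^ p ^ k = 1
        rw [← zpow_natCast, ← zpow_mul, mul_comm, zpow_mul, zpow_natCast, conj_pow, hk]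
        simp
      have h3 : IsPGroup p (Subgroup.zpowers (⟨g * x * g⁻¹, hyH⟩ : H) ⊔ Subgroup.normalClosure {(⟨x, hxH⟩ : H)} : Subgroup H) :=
        IsPGroup.to_sup_of_normal_right h2 h1
      have h4 := h3.map H.subtype
      refine h4.to_le ?_
      rw [Subgroup.closure_le]
      rintro y (rfl | hy)
      · exact ⟨⟨y, hxH⟩, Subgroup.mem_sup_right (Subgroup.subset_normalClosure rfl), rfl⟩
      · rw [Set.mem_singleton_iff] at hy
        subst hy
        exact ⟨⟨_, hyH⟩, Subgroup.mem_sup_left (Subgroup.mem_zpowers _), rfl⟩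

/-- an abelian subgroup of a finite nonabelian simple group meets some conjugate trivially -/
theorem exists_inf_conj {T : Type u} [Group T] [Finite T] [IsSimpleGroup T] (hT : ¬ Group.IsSolvable T)
    (N : Subgroup T) (hN : ∀ a ∈ N, ∀ b ∈ N, a * b = b * a) :
    ∃ g : T, ∀ a ∈ N, g * a * g⁻¹ ∈ N → a = 1 := by
  classical
  let D : T → Subgroup T := fun g => N ⊓ N.comap (MulAut.conj g).toMonoidHom
  have hD : ∀ g a : T, a ∈ D g ↔ a ∈ N ∧ g * a * g⁻¹ ∈ N := fun g a => Iff.rfl
  obtain ⟨g, hg⟩ : ∃ g : T, ∀ h : T, Nat.card (D g) ≤ Nat.card (D h) := by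
    obtain ⟨g, -, hg⟩ := Set.exists_min_image (Set.univ : Set T) (fun g => Nat.card (D g)) Set.finite_univ ⟨1, trivial⟩
    exact ⟨g, fun h => hg h trivial⟩
  refine ⟨g, fun a ha1 ha2 => ?_⟩
  by_contra hne
  have hbot : D g ≠ ⊥ := fun h => hne (by
    have : a ∈ D g := ⟨ha1, ha2⟩
    rwa [h, Subgroup.mem_bot] at this)
  have hc : Nat.card (D g) ≠ 1 := fun h => hbot (Subgroup.card_eq_one.1 h)
  obtain ⟨p, hp, hpd⟩ := Nat.exists_prime_and_dvd hc
  have : Fact p.Prime := ⟨hp⟩
  obtain ⟨⟨x, hx⟩, hxo⟩ := exists_prime_orderOf_dvd_card' p hpd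
  have hxo' : orderOf x = p := by
    rw [← hxo]; exact (Subgroup.orderOf_coe (⟨x, hx⟩ : D g)).symm ▸ rfl
  have h1 := zenkov p (Nat.card T) T le_rfl N (N.map (MulAut.conj g⁻¹).toMonoidHom) hN ?_ ?_ x hx.1 ?_
    ⟨1, by rw [pow_one, ← hxo', pow_orderOf_eq_one]⟩
  · have h2 : Subgroup.normalClosure {x} = ⊤ := by
      refine (Subgroup.normalClosure_normal.eq_bot_or_eq_top).resolve_left fun h => ?_
      have h3 : x ∈ Subgroup.normalClosure {x} := Subgroup.subset_normalClosure rfl
      rw [h, Subgroup.mem_bot] at h3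
      rw [h3, orderOf_one] at hxo'
      exact hp.one_lt.ne hxo'
    rw [h2] at h1
    apply hT
    have h3 : IsPGroup p T := h1.of_equiv Subgroup.topEquiv
    have := h3.isNilpotent
    infer_instance
  · rintro _ ⟨a, ha, rfl⟩ _ ⟨b, hb, rfl⟩
    rw [← map_mul, ← map_mul, hN a ha b hb]
  · intro h h1 a ha hb
    have key : ∀ c : T, c ∈ N.map (MulAut.conj g⁻¹).toMonoidHom ↔ g * c * g⁻¹ ∈ N := by
      intro c
      constructor
      · rintro ⟨b, hb, rfl⟩
        change g * (g⁻¹ * b * g⁻¹⁻¹) * g⁻¹ ∈ N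
        simpa [mul_assoc] using hb
      · intro h
        refine ⟨_, h, ?_⟩
        change g⁻¹ * (g * c * g⁻¹) * g⁻¹⁻¹ = c
        group
    have h2 : D (g * h⁻¹) ≤ D g := by
      rintro c ⟨hc1, hc2⟩
      refine ⟨hc1, (key c).1 (h1 c hc1 ?_)⟩
      rw [key]
      change g * h⁻¹ * c * (g * h⁻¹)⁻¹ ∈ N at hc2
      simpa [mul_assoc] using hc2
    have h3 : D (g * h⁻¹) = D g := Subgroup.eq_of_le_of_card_ge h2 (hg _)
    have h4 : a ∈ D g := ⟨ha, (key a).1 hb⟩
    rw [← h3] at h4
    rw [key]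
    have h5 : g * h⁻¹ * a * (g * h⁻¹)⁻¹ ∈ N := h4.2
    simpa [mul_assoc] using h5
  · exact ⟨g * x * g⁻¹, hx.2, by
      change g⁻¹ * (g * x * g⁻¹) * g⁻¹⁻¹ = x
      group⟩

end Cfsg.Agent.H88.FC
end

-- part: H88/FC/ThreeOdd
section
/-!
# S5764, SP4G: `S` normalizes an abelian group of odd exponent (helper88)

* `kill3_of_reg` : `v` regular, `S ∩ P` normalizes `C(v)`;
* `kill3_odd` : `S` not contained in `P`, `|F| = 2^f`, `f` odd, `A ≠ 1` abelian of odd exponent and `S`-invariant.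
-/

set_option autoImplicit false
set_option linter.unusedSectionVars false

namespace Cfsg.Agent.H88.FC

open Matrix Cfsg.Agent.ClassicalGeometry.Sp4Graph Cfsg.Agent.H319.FC
open Cfsg.Agent.ClassicalGeometry.SympBasic Cfsg.Agent.ClassicalGeometry.SympAutSemi

universe u

variable {F : Type u} [Field F] [CharP F 2]

/-- an automorphism in `P` fixing `v` and `v₂` is linear -/
theorem lin_of_fix {v v₂ : Sp4 F} (hv : Reg v) {l : F} (h : (v₂ : Matrix I4 I4 F) * (1 + l • st (v : Matrix I4 I4 F)) =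
      1 + l • (v : Matrix I4 I4 F)) {g : semiSim 2 F} {φ : F ≃+* F} {k : F} (hg : IsSemi g.1 φ k)
    (h1 : conjHom 2 F g v = v) (h2 : conjHom 2 F g v₂ = v₂) : φ l = l := by
  have hcom : ∀ A : Sp4 F, conjHom 2 F g A = A → ∀ x, g.1 (rho 2 F A x) = rho 2 F A (g.1 x) := by
    intro A hA x
    have h3 := rho_conjHom g A
    rw [hA] at h3
    calc g.1 (rho 2 F A x) = g.1 (rho 2 F A (g.1⁻¹ (g.1 x))) := by rw [perm_inv_apply_self]
      _ = (g.1 * rho 2 F A * g.1⁻¹) (g.1 x) := rfl
      _ = rho 2 F A (g.1 x) := by rw [← h3]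
  have h3 : conjHom 2 F g v⁻¹ = v⁻¹ := by rw [map_inv, h1]
  have hfun : ∀ x, rho 2 F v₂ (x + l • rho 2 F v⁻¹ x) = x + l • rho 2 F v x := by
    intro x
    simp only [rho_apply]
    rw [coe_inv]
    have h4 := congrArg (fun M : Matrix I4 I4 F => M *ᵥ x) h
    simp only [← Matrix.mulVec_mulVec, Matrix.add_mulVec, Matrix.one_mulVec, Matrix.smul_mulVec] at h4
    exact h4
  have hfun' : ∀ y, rho 2 F v₂ (y + φ l • rho 2 F v⁻¹ y) = y + φ l • rho 2 F v y := by
    intro y
    obtain ⟨x, rfl⟩ := g.1.surjective y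
    have h4 := congrArg g.1 (hfun x)
    rw [hcom v₂ h2, hg.1, hg.1, hg.2.1, hg.2.1, hcom v h1, hcom v⁻¹ h3] at h4
    exact h4
  have hmat : (v₂ : Matrix I4 I4 F) * (1 + φ l • st (v : Matrix I4 I4 F)) = 1 + φ l • (v : Matrix I4 I4 F) := by
    rw [← Matrix.mulVec_injective.eq_iff]
    funext x
    have h4 := hfun' x
    simp only [rho_apply] at h4
    rw [coe_inv] at h4
    simp only [← Matrix.mulVec_mulVec, Matrix.add_mulVec, Matrix.one_mulVec, Matrix.smul_mulVec]
    exact h4
  by_contra hne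
  have hne' : φ l - l ≠ 0 := sub_ne_zero.2 hne
  have h5 : (φ l - l) • ((v₂ : Matrix I4 I4 F) * st (v : Matrix I4 I4 F)) = (φ l - l) • (v : Matrix I4 I4 F) := by
    have h6 : (v₂ : Matrix I4 I4 F) * (1 + φ l • st (v : Matrix I4 I4 F)) - (v₂ : Matrix I4 I4 F) * (1 + l • st (v : Matrix I4 I4 F))
      = (1 + φ l • (v : Matrix I4 I4 F)) - (1 + l • (v : Matrix I4 I4 F)) := by rw [hmat, h]
    simp only [mul_add, mul_smul_comm, mul_one] at h6
    have h7 : (φ l - l) • ((v₂ : Matrix I4 I4 F) * st (v : Matrix I4 I4 F)) =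
      ((v₂ : Matrix I4 I4 F) + φ l • ((v₂ : Matrix I4 I4 F) * st (v : Matrix I4 I4 F))) -
        ((v₂ : Matrix I4 I4 F) + l • ((v₂ : Matrix I4 I4 F) * st (v : Matrix I4 I4 F))) := by module
    rw [h7, h6]
    module
  have h6 : (v₂ : Matrix I4 I4 F) * st (v : Matrix I4 I4 F) = (v : Matrix I4 I4 F) := by
    have h7 := congrArg (fun M : Matrix I4 I4 F => (φ l - l)⁻¹ • M) h5
    simp only [smul_smul, inv_mul_cancel₀ hne', one_smul] at h7
    exact h7
  rw [mul_add, mul_one, mul_smul_comm, h6] at h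
  have h7 : (v₂ : Matrix I4 I4 F) = 1 := add_right_cancel h
  rw [h7, one_mul] at h6
  apply hv.ns 0
  rw [W, h6, zero_smul]
  exact CharTwo.add_self_eq_zero _

variable [Finite F]

theorem odd_of_comm {v : Sp4 F} (hv : Reg v) {n : Sp4 F} (hn : n * v = v * n) : Odd (orderOf n) := by
  rw [← Nat.not_even_iff_odd]
  intro he
  obtain ⟨k, hk⟩ := he
  have h0 : 0 < orderOf n := orderOf_pos n
  have hc : Commute n v := hn
  have h1 : n ^ k = 1 := by
    apply eq_one_of_sq' hv (hc.pow_left k).eq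
    rw [← pow_mul, mul_two, ← hk, pow_orderOf_eq_one]
  have h2 := orderOf_dvd_of_pow_eq_one h1
  have h3 := Nat.le_of_dvd (by omega) h2
  omega

/-- **three conjugates, if `S ∩ P` normalizes `C(v)`, `v` regular** -/
theorem kill3_of_reg (hq : 4 ≤ Nat.card F) (h3 : ∀ x : F, x ^ 3 = 1 → x = 1) {S : Subgroup (MulAut (Sp4 F))} {v : Sp4 F}
    (hv : Reg v) (hN : ∀ α ∈ S, α ∈ (conjHom 2 F).range → ∀ n : Sp4 F, n * v = v * n → α n * v = v * α n) :
    Kill3 S := by
  have hsimple := simple_sp (F := F) hq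
  have hns := not_solvable_sp (F := F) hq
  obtain ⟨l, hl, hl'⟩ := exists_lam hq h3 (k₁ := (v : Matrix I4 I4 F).trace)
    (k₂ := (graphHom F v : Matrix I4 I4 F).trace) hv.c1
  obtain ⟨v₂, hv2, hrel⟩ := exists_v2 hl
  -- the centralizer of `v`
  let N : Subgroup (Sp4 F) := Subgroup.centralizer {v}
  have hNm : ∀ n : Sp4 F, n ∈ N ↔ n * v = v * n := by
    intro n
    rw [Subgroup.mem_centralizer_singleton_iff]
  have hNc : ∀ a ∈ N, ∀ b ∈ N, a * b = b * a := by
    intro a ha b hb
    rw [hNm] at ha hb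
    apply Subtype.ext
    exact comm_of_comm hv (congrArg Subtype.val ha) (congrArg Subtype.val hb)
  obtain ⟨x, hx⟩ := exists_inf_conj hns N hNc
  -- key
  have key : ∀ n : Sp4 F, n * v = v * n → MulAut.conj (x * n * x⁻¹) ∈ S → n = 1 := by
    intro n hn hS
    have h1 := hN _ hS (conj_mem_P _) v rfl
    rw [MulAut.conj_apply] at h1
    have hodd : Odd (orderOf (x * n * x⁻¹)) := by
      have h2 : orderOf (x * n * x⁻¹) = orderOf n := by
        rw [← MulAut.conj_apply, MulEquiv.orderOf_eq]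
      rw [h2]
      exact odd_of_comm hv hn
    have h2 := comm_of_conj hv hodd h1
    exact hx n ((hNm n).2 hn) ((hNm _).2 h2)
  have hkey2 : ∀ α ∈ S, α ∈ (conjHom 2 F).range → MulAut.conj x * α * (MulAut.conj x)⁻¹ ∈ S →
      ∀ n : Sp4 F, n * v = v * n → MulAut.conj (x * n) * α * (MulAut.conj (x * n))⁻¹ ∈ S → α n = n := by
    intro α hα hαP h0 n hn h1
    have h2 : MulAut.conj (x * (n * (α n)⁻¹) * x⁻¹) =
        (MulAut.conj (x * n) * α * (MulAut.conj (x * n))⁻¹) * (MulAut.conj x * α * (MulAut.conj x)⁻¹)⁻¹ := by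
      have h3 := conj_comm α n
      have h4 : MulAut.conj (x * n) * α * (MulAut.conj (x * n))⁻¹ =
          MulAut.conj x * (MulAut.conj n * α * (MulAut.conj n)⁻¹) * (MulAut.conj x)⁻¹ := by
        rw [map_mul]; group
      rw [h4, h3]
      simp only [map_mul, map_inv]
      group
    have h3 : n * (α n)⁻¹ = 1 := by
      apply key
      · have h4 := hN α hα hαP n hn
        have h5 : Commute n v := hn
        have h6 : Commute (α n) v := h4
        exact (h5.mul_left h6.inv_left).eq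
      · rw [h2]
        exact mul_mem h1 (inv_mem h0)
    exact (mul_inv_eq_one.1 h3).symm
  refine ⟨![x, x * v, x * v₂], fun α hα hαP hi => ?_⟩
  have i0 : MulAut.conj x * α * (MulAut.conj x)⁻¹ ∈ S := hi 0
  have i1 : MulAut.conj (x * v) * α * (MulAut.conj (x * v))⁻¹ ∈ S := hi 1
  have i2 : MulAut.conj (x * v₂) * α * (MulAut.conj (x * v₂))⁻¹ ∈ S := hi 2
  have f1 := hkey2 α hα hαP i0 v rfl i1
  have f2 := hkey2 α hα hαP i0 v₂ hv2 i2
  obtain ⟨g, rfl⟩ := hαP
  obtain ⟨φ, k, hk, hg⟩ := g.2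
  have hφ := hl' φ (lin_of_fix hv hrel hg f1 f2)
  obtain ⟨A, hA, -⟩ := exists_conj_of_linear hk hg hφ
  rw [hA] at f1 i0 ⊢
  rw [MulAut.conj_apply] at f1
  have hAv : A * v = v * A := by
    rw [mul_inv_eq_iff_eq_mul] at f1
    exact f1
  have h5 : A = 1 := by
    apply key A hAv
    rw [map_mul, map_mul, map_inv]
    exact i0
  rw [h5, map_one]

/-- **the odd case** -/
theorem kill3_odd (hq : 4 ≤ Nat.card F) (h3 : ∀ x : F, x ^ 3 = 1 → x = 1) {S : Subgroup (MulAut (Sp4 F))}
    (hS : ¬ S ≤ (conjHom 2 F).range) {r : ℕ} (hr : Odd r) (A : Subgroup (Sp4 F)) (hA : A ≠ ⊥)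
    (hcomm : ∀ a ∈ A, ∀ b ∈ A, a * b = b * a) (hexp : ∀ a ∈ A, a ^ r = 1) (hinv : ∀ α ∈ S, ∀ a ∈ A, α a ∈ A) :
    Kill3 S := by
  have hodd : ∀ a ∈ A, Odd (orderOf a) := fun a ha => hr.of_dvd_nat (orderOf_dvd_of_pow_eq_one (hexp a ha))
  obtain ⟨v, hv, hv1, hv2⟩ : ∃ v : Sp4 F, Reg v ∧ (∀ a ∈ A, a * v = v * a) ∧
      ∀ n : Sp4 F, (∀ a ∈ A, n * a = a * n) → n * v = v * n := by
    by_cases hex : ∃ a ∈ A, c1 a * c2 a ≠ 0
    · obtain ⟨a, ha, h1⟩ := hex
      exact ⟨a, ⟨left_ne_zero_of_mul h1, right_ne_zero_of_mul h1⟩, fun b hb => hcomm b hb a ha, fun n hn => hn a ha⟩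
    · push Not at hex
      obtain ⟨a₀, ha₀, ha₀1⟩ : ∃ a ∈ A, a ≠ 1 := by
        obtain ⟨a, h⟩ := Subgroup.ne_bot_iff_exists_ne_one.1 hA
        exact ⟨a.1, a.2, fun h' => h (Subtype.ext h')⟩
      obtain ⟨α, hαS, hαP⟩ := Set.not_subset.1 hS
      have hgr : ∀ y : Sp4 F, c1 (α y) = 0 ↔ c2 y = 0 := by
        intro y
        obtain ⟨k, hk⟩ := exists_graph hq hαP
        obtain ⟨φ, c, hc, hg⟩ := k.2
        have h4 : c1 (α y) = φ (c2 y) := by
          rw [hk, c1]
          exact trace_conjHom hg (graphEquiv F y)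
        rw [h4, map_eq_zero]
      obtain ⟨a, b, ha, hb, ha1, hb1, h1a, h2b⟩ : ∃ a b : Sp4 F, a ∈ A ∧ b ∈ A ∧ a ≠ 1 ∧ b ≠ 1 ∧ c1 a = 0 ∧ c2 b = 0 := by
        rcases mul_eq_zero.1 (hex a₀ ha₀) with h4 | h4
        · refine ⟨a₀, α⁻¹ a₀, ha₀, hinv _ (inv_mem hαS) _ ha₀, ha₀1, ?_, h4, ?_⟩
          · rwa [Ne, map_eq_one_iff _ (MulEquiv.injective _)]
          · rw [← hgr]
            have : α (α⁻¹ a₀) = a₀ := α.apply_symm_apply a₀
            rwa [this]
        · refine ⟨α a₀, a₀, hinv _ hαS _ ha₀, ha₀, ?_, ha₀1, ?_, h4⟩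
          · rwa [Ne, map_eq_one_iff _ (MulEquiv.injective _)]
          · rwa [hgr]
      have hE := exc_of (hcomm a ha b hb) (hodd a ha) (hodd b hb) (hodd _ (mul_mem ha hb)) (hodd _ (mul_mem ha (inv_mem hb)))
        ha1 hb1 h1a h2b (hex _ (mul_mem ha hb)) (hex _ (mul_mem ha (inv_mem hb)))
      obtain ⟨l, hl0, hl1⟩ := exists_t (F := F) hq
      obtain ⟨v, hv, hX⟩ := hE.exists_reg hl0 hl1 h3
      refine ⟨v, hv, fun c hc => ?_, fun n hn => ?_⟩
      · exact Subtype.ext (hX _ (congrArg Subtype.val (hcomm c hc a ha)) (congrArg Subtype.val (hcomm c hc b hb)))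
      · exact Subtype.ext (hX _ (congrArg Subtype.val (hn a ha)) (congrArg Subtype.val (hn b hb)))
  refine kill3_of_reg hq h3 hv fun α hα _ n hn => hv2 _ fun a ha => ?_
  have h4 : α⁻¹ a ∈ A := hinv _ (inv_mem hα) a ha
  have h5 : n * α⁻¹ a = α⁻¹ a * n := by
    apply Subtype.ext
    exact comm_of_comm hv (congrArg Subtype.val hn) (congrArg Subtype.val (hv1 _ h4))
  have h6 := congrArg α h5
  rw [map_mul, map_mul] at h6
  have h7 : α (α⁻¹ a) = a := α.apply_symm_apply a
  rwa [h7] at h6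

/-- if `|F| = 2^f` with `f` odd, there are no elements of order three in `F^*` -/
theorem cube_of_odd {f : ℕ} (hF : Nat.card F = 2 ^ f) (hf : Odd f) (x : F) (hx : x ^ 3 = 1) : x = 1 := by
  have : Fintype F := Fintype.ofFinite F
  rw [Nat.card_eq_fintype_card] at hF
  have hx0 : x ≠ 0 := by
    rintro rfl
    rw [zero_pow (by norm_num)] at hx
    exact zero_ne_one hx
  have h1 : x ^ (2 ^ f - 1) = 1 := by
    rw [← hF]
    exact FiniteField.pow_card_sub_one_eq_one x hx0
  have h2 : 2 ^ f % 3 = 2 := by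
    obtain ⟨k, rfl⟩ := hf
    rw [pow_succ, pow_mul, Nat.mul_mod, Nat.pow_mod]
    norm_num
  have h3 : orderOf x ∣ Nat.gcd 3 (2 ^ f - 1) := Nat.dvd_gcd (orderOf_dvd_of_pow_eq_one hx) (orderOf_dvd_of_pow_eq_one h1)
  have h4 : Nat.gcd 3 (2 ^ f - 1) = 1 := by
    rw [← Nat.Coprime, Nat.Prime.coprime_iff_not_dvd Nat.prime_three]
    intro h5
    obtain ⟨c, hc⟩ := h5
    have : 0 < 2 ^ f := by positivity
    omega
  rw [h4, Nat.dvd_one, orderOf_eq_one_iff] at h3
  exact h3

end Cfsg.Agent.H88.FC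
end

-- part: H545/FC/NoInv
section
/-!
# S5764, SP4G: no involution outside the semisimilitudes if `|F| = 2 ^ f`, `f` even (helper545)
-/

set_option autoImplicit false
set_option linter.unusedVariables false

namespace Cfsg.Agent.H545.FC

open Cfsg Matrix
open Cfsg.Agent.ClassicalGeometry.SympBasic Cfsg.Agent.ClassicalGeometry.SympAutSemi
open Cfsg.Agent.ClassicalGeometry.Sp4Graph
open Cfsg.Agent.H319.FC

universe u

section map

variable {F : Type u} [Field F]

/-- a field automorphism applied to the entries -/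
def mapS (φ : F ≃+* F) : Sp4 F →* Sp4 F where
  toFun A := ⟨(A : Matrix (Fin 2 ⊕ Fin 2) (Fin 2 ⊕ Fin 2) F).map φ, by
    have h := A.2
    rw [SymplecticGroup.mem_iff] at h ⊢
    have h1 : (Matrix.J (Fin 2) F).map φ = Matrix.J (Fin 2) F := by
      ext i j
      rcases i with i | i <;> rcases j with j | j <;> simp [Matrix.J, Matrix.one_apply, apply_ite]
    have h2 := congrArg (fun X : Matrix (Fin 2 ⊕ Fin 2) (Fin 2 ⊕ Fin 2) F => X.map φ) h
    simp only [Matrix.map_mul] at h2
    rwa [h1] at h2⟩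
  map_one' := by
    apply Subtype.ext
    change (1 : Matrix (Fin 2 ⊕ Fin 2) (Fin 2 ⊕ Fin 2) F).map φ = 1
    rw [Matrix.map_one _ (map_zero φ) (map_one φ)]
  map_mul' A B := by
    apply Subtype.ext
    change ((A : Matrix (Fin 2 ⊕ Fin 2) (Fin 2 ⊕ Fin 2) F) * B).map φ = _
    rw [Matrix.map_mul]
    rfl

theorem mapS_apply (φ : F ≃+* F) (A : Sp4 F) (i j : Fin 2 ⊕ Fin 2) :
    (mapS φ A : Matrix (Fin 2 ⊕ Fin 2) (Fin 2 ⊕ Fin 2) F) i j = φ ((A : Matrix _ _ F) i j) := rfl

theorem graph_mapS [CharP F 2] (φ : F ≃+* F) (A : Sp4 F) : graphHom F (mapS φ A) = mapS φ (graphHom F A) := by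
  apply Subtype.ext
  ext i j
  rw [graphHom_coe, mn_apply, mapS_apply, mapS_apply, mapS_apply, mapS_apply, mapS_apply, graphHom_coe, mn_apply,
    map_add, map_mul, map_mul]

/-- **decomposition of the semisimilitudes** -/
theorem exists_dec [Finite F] [CharP F 2] (g : semiSim 2 F) :
    ∃ (h : Sp4 F) (φ : F ≃+* F), ∀ A, conjHom 2 F g A = h * mapS φ A * h⁻¹ := by
  obtain ⟨φ, l, hl, hg⟩ := g.2
  have := Fintype.ofFinite F
  have hch : ringChar F = 2 := ringChar.eq F 2 ▸ rfl
  obtain ⟨μ, hμ⟩ := FiniteField.isSquare_of_char_two hch l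
  have hμ0 : μ ≠ 0 := by
    rintro rfl
    rw [mul_zero] at hμ
    exact hl hμ
  -- the linear part
  let e : Equiv.Perm (V4 F) :=
    { toFun := fun v => μ⁻¹ • g.1 (φ.symm ∘ v)
      invFun := fun v => φ ∘ (g.1⁻¹ (μ • v))
      left_inv := fun v => by
        change φ ∘ (g.1⁻¹ (μ • μ⁻¹ • g.1 (φ.symm ∘ v))) = v
        rw [smul_smul, mul_inv_cancel₀ hμ0, one_smul, perm_inv_apply_self]
        funext i
        simp
      right_inv := fun v => by
        change μ⁻¹ • g.1 (φ.symm ∘ (φ ∘ (g.1⁻¹ (μ • v)))) = v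
        have h1 : φ.symm ∘ (φ ∘ (g.1⁻¹ (μ • v))) = g.1⁻¹ (μ • v) := by
          funext i
          simp
        rw [h1, perm_apply_inv_self, smul_smul, inv_mul_cancel₀ hμ0, one_smul] }
  have he : ∀ v, e v = μ⁻¹ • g.1 (φ.symm ∘ v) := fun _ => rfl
  have hform : ∀ u v : V4 F, φ (sympForm 2 F (φ.symm ∘ u) (φ.symm ∘ v)) = sympForm 2 F u v := by
    intro u v
    rw [sympForm_eq, sympForm_eq]
    simp [map_add, map_mul]
  obtain ⟨h, hh⟩ := exists_rho_eq e
    (fun u v => by
      rw [he, he, he, ← smul_add, ← hg.1]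
      congr 2
      funext i
      simp)
    (fun a v => by
      rw [he, he, smul_comm a]
      congr 1
      have h1 : φ.symm ∘ (a • v) = (φ.symm a) • (φ.symm ∘ v) := by
        funext i
        simp
      rw [h1, hg.2.1, RingEquiv.apply_symm_apply])
    (fun u v => by
      rw [he, he, sympForm_smul_left, sympForm_smul_right, hg.2.2, hform, hμ]
      field_simp)
  refine ⟨h, φ, fun A => ?_⟩
  apply rho_injective
  rw [rho_conjHom, map_mul, map_mul, map_inv]
  ext1 w
  obtain ⟨v, rfl⟩ := g.1.surjective w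
  have hge : ∀ v, g.1 v = μ • e (φ ∘ v) := by
    intro v
    rw [he, smul_smul, mul_inv_cancel₀ hμ0, one_smul]
    congr 1
    funext i
    simp
  have hlin : ∀ (B : Sp4 F) (a : F) (v : V4 F), rho 2 F B (a • v) = a • rho 2 F B v := fun B a v =>
    (isSemi_rho B).2.1 a v
  have hinv : ∀ (a : F) (v : V4 F), (rho 2 F h)⁻¹ (a • v) = a • (rho 2 F h)⁻¹ v := fun a v => by
    rw [← map_inv]; exact hlin _ _ _
  rw [Equiv.Perm.mul_apply, Equiv.Perm.mul_apply, Equiv.Perm.mul_apply, Equiv.Perm.mul_apply, perm_inv_apply_self]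
  rw [hge v, ← hh, hinv, perm_inv_apply_self, hlin, hlin, hge]
  congr 2
  rw [hh]
  funext i
  change φ (((A : Matrix (Fin 2 ⊕ Fin 2) (Fin 2 ⊕ Fin 2) F) *ᵥ v) i) =
    (((A : Matrix (Fin 2 ⊕ Fin 2) (Fin 2 ⊕ Fin 2) F).map φ) *ᵥ (φ ∘ v)) i
  exact RingHom.map_mulVec φ.toRingHom _ _ _

end map

section main

variable {F : Type u} [Field F]

theorem center_eq [CharP F 2] : Subgroup.center (Sp4 F) = ⊥ := by
  rw [eq_bot_iff]
  intro z hz
  obtain ⟨a, ha⟩ := (Cfsg.Agent.LieClassical.SympCenter.mem_center_iff 2 z).1 hz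
  have h1 : a * a = 1 := by
    refine Cfsg.Agent.ClassicalGeometry.SympAutExists.sq_eq_one_of_center (m := 2) (F := F) (by norm_num) (z := z)
      fun v => ?_
    change (z : Matrix (Fin 2 ⊕ Fin 2) (Fin 2 ⊕ Fin 2) F) *ᵥ v = a • v
    rw [ha, Matrix.smul_mulVec, Matrix.one_mulVec]
  have h2 : a = 1 := by
    apply CharTwo.sq_injective
    change a ^ 2 = 1 ^ 2
    rw [pow_two, h1, one_pow]
  rw [Subgroup.mem_bot]
  apply Subtype.ext
  rw [ha, h2, one_smul]
  rfl

theorem quotAut_injective [CharP F 2] :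
    Function.Injective (quotAut : MulAut (Sp4 F) →* MulAut (Sp4 F ⧸ Subgroup.center (Sp4 F))) := by
  intro α β h
  refine MulEquiv.ext fun A => ?_
  have h1 := DFunLike.congr_fun h (QuotientGroup.mk A)
  rw [quotAut_mk, quotAut_mk, QuotientGroup.eq, center_eq, Subgroup.mem_bot, inv_mul_eq_one] at h1
  exact h1

/-- an automorphism which is not induced by a semisimilitude is one times the graph automorphism -/
theorem exists_graph [Finite F] [CharP F 2] (ht : ∃ t : F, t ≠ 0 ∧ t ≠ 1) (α : MulAut (Sp4 F))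
    (ha : α ∉ (conjHom 2 F).range) : ∃ g : semiSim 2 F, α = conjHom 2 F g * (graphEquiv F : MulAut (Sp4 F)) := by
  have hidx : (Psi 2 F).range.index = 2 :=
    Cfsg.Agent.ClassicalGeometry.SympAutTwo.index_two ht fun α hα => by
      obtain ⟨g, hg⟩ := Cfsg.Agent.ClassicalGeometry.SympAutExists.exists_semi le_rfl α hα
      exact ⟨g, hg⟩
  have h1 : quotAut α ∉ (Psi 2 F).range := by
    rintro ⟨g, hg⟩
    exact ha ⟨g, quotAut_injective hg⟩
  have h2 : quotAut (graphEquiv F : MulAut (Sp4 F)) ∉ (Psi 2 F).range := by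
    intro h
    have h1 := Cfsg.Agent.ClassicalGeometry.AutPSpCount.pres_of_mem_range h
    obtain ⟨w, -, d, -, h2⟩ := h1 (Cfsg.Agent.ClassicalGeometry.Sp4GraphAut.e1 F)
      Cfsg.Agent.ClassicalGeometry.Sp4GraphAut.e1_ne_zero 1 one_ne_zero
    exact Cfsg.Agent.ClassicalGeometry.Sp4GraphAut.gamma_transv_ne one_ne_zero w d h2
  have h3 : quotAut α * (quotAut (graphEquiv F : MulAut (Sp4 F)))⁻¹ ∈ (Psi 2 F).range := by
    rw [Subgroup.mul_mem_iff_of_index_two hidx, Subgroup.inv_mem_iff]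
    exact ⟨fun h => absurd h h1, fun h => absurd h h2⟩
  obtain ⟨g, hg⟩ := h3
  refine ⟨g, quotAut_injective ?_⟩
  rw [map_mul]
  have h4 : quotAut (conjHom 2 F g) = quotAut α * (quotAut (graphEquiv F : MulAut (Sp4 F)))⁻¹ := hg
  rw [h4, inv_mul_cancel_right]

/-- a symplectic matrix with trace `a` -/
def trM [CharP F 2] (a : F) : Sp4 F :=
  ⟨Matrix.fromBlocks (Matrix.diagonal ![a, 1]) (Matrix.diagonal ![1, 0]) (Matrix.diagonal ![1, 0])
    (Matrix.diagonal ![0, 1]), by
    have h2 : (2 : F) = 0 := CharTwo.two_eq_zero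
    have hn : ∀ x : F, -x = x := CharTwo.neg_eq
    rw [SymplecticGroup.mem_iff]
    ext i j
    rcases i with i | i <;> rcases j with j | j <;> fin_cases i <;> fin_cases j <;>
      simp [Matrix.J, Matrix.mul_apply, Fintype.sum_sum_type, Matrix.diagonal_apply,
        Matrix.one_apply, hn, CharTwo.add_self_eq_zero]⟩

theorem trace_trM [CharP F 2] (a : F) : Matrix.trace (trM a : Matrix (Fin 2 ⊕ Fin 2) (Fin 2 ⊕ Fin 2) F) = a := by
  simp [trM, Matrix.trace, Fintype.sum_sum_type, Fin.sum_univ_two, add_assoc, CharTwo.add_self_eq_zero]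

theorem trace_sq [CharP F 2] (φ : F ≃+* F) (A : Sp4 F) :
    Matrix.trace ((mapS φ (mapS φ (graphHom F (graphHom F A))) : Sp4 F) :
      Matrix (Fin 2 ⊕ Fin 2) (Fin 2 ⊕ Fin 2) F) =
    φ (φ ((Matrix.trace (A : Matrix (Fin 2 ⊕ Fin 2) (Fin 2 ⊕ Fin 2) F)) ^ 2)) := by
  simp only [Matrix.trace, Matrix.diag_apply, mapS_apply, graphHom_graphHom]
  rw [CharTwo.sum_sq, map_sum, map_sum]

/-- **no involution outside the semisimilitudes.** -/
theorem no_graph_inv [Finite F] [CharP F 2] (f : ℕ) (hf : Nat.card F = 2 ^ f) (hev : Even f) (α : MulAut (Sp4 F))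
    (ha : α ∉ (conjHom 2 F).range) : α * α ≠ 1 := by
  intro hα
  have := Fintype.ofFinite F
  -- a primitive cube root of unity
  have hf2 : 2 ≤ f := by
    obtain ⟨k, hk⟩ := hev
    have h1 : 1 < Nat.card F := Finite.one_lt_card
    by_contra hcon
    have h2 : f = 0 := by omega
    rw [hf, h2, pow_zero] at h1
    omega
  obtain ⟨ω, hω⟩ : ∃ ω : Fˣ, orderOf ω = 3 := by
    have h3 : Fact (Nat.Prime 3) := ⟨Nat.prime_three⟩
    apply exists_prime_orderOf_dvd_card' 3
    rw [Nat.card_units, hf]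
    obtain ⟨k, rfl⟩ := hev
    have h1 : 2 ^ (k + k) = 4 ^ k := by rw [← two_mul, pow_mul]; norm_num
    rw [h1]
    have := Nat.sub_dvd_pow_sub_pow 4 1 k
    rwa [one_pow] at this
  have hω3 : (ω : F) ^ 3 = 1 := by
    rw [← Units.val_pow_eq_pow_val, ← hω, pow_orderOf_eq_one, Units.val_one]
  have hω1 : (ω : F) ≠ 1 := by
    intro h
    have : ω = 1 := Units.ext h
    rw [this, orderOf_one] at hω
    omega
  have hω0 : (ω : F) ≠ 0 := ω.ne_zero
  have hq : (ω : F) ^ 2 + ω + 1 = 0 := by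
    have h1 : ((ω : F) - 1) * ((ω : F) ^ 2 + ω + 1) = 0 := by linear_combination hω3
    rcases mul_eq_zero.1 h1 with h2 | h2
    · exact absurd (sub_eq_zero.1 h2) hω1
    · exact h2
  -- field automorphisms fix or square it
  have hφ : ∀ φ : F ≃+* F, φ (φ (ω : F)) = ω := by
    intro φ
    have h1 : (φ (ω : F)) ^ 2 + φ ω + 1 = 0 := by
      rw [← map_pow, ← map_add, ← map_one φ, ← map_add, hq, map_zero]
    have h2 : (φ (ω : F) - ω) * (φ ω - ω ^ 2) = 0 := by
      linear_combination h1 - (φ ω) * hq + hω3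
    rcases mul_eq_zero.1 h2 with h3 | h3
    · rw [sub_eq_zero] at h3
      rw [h3, h3]
    · rw [sub_eq_zero] at h3
      rw [h3, map_pow, h3, ← pow_mul]
      calc (ω : F) ^ (2 * 2) = (ω : F) ^ 3 * (ω : F) := by ring
        _ = (ω : F) := by rw [hω3, one_mul]
  have ht : ∃ t : F, t ≠ 0 ∧ t ≠ 1 := ⟨ω, hω0, hω1⟩
  obtain ⟨g, rfl⟩ := exists_graph ht α ha
  obtain ⟨h, φ, hd⟩ := exists_dec g
  -- the square
  have key : ∀ A : Sp4 F, A = (h * mapS φ (graphHom F h)) * mapS φ (mapS φ (graphHom F (graphHom F A))) *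
      (h * mapS φ (graphHom F h))⁻¹ := by
    intro A
    have h1 := DFunLike.congr_fun hα A
    change conjHom 2 F g (graphHom F (conjHom 2 F g (graphHom F A))) = A at h1
    rw [hd, hd] at h1
    simp only [map_mul, map_inv, graph_mapS, mul_assoc] at h1
    rw [_root_.mul_inv_rev, mul_assoc, mul_assoc]
    exact h1.symm
  have h1 := congrArg (fun A : Sp4 F => Matrix.trace (A : Matrix (Fin 2 ⊕ Fin 2) (Fin 2 ⊕ Fin 2) F))
    (key (trM (ω : F)))
  have htr : ∀ k B : Sp4 F, Matrix.trace ((k * B * k⁻¹ : Sp4 F) : Matrix (Fin 2 ⊕ Fin 2) (Fin 2 ⊕ Fin 2) F) =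
      Matrix.trace (B : Matrix (Fin 2 ⊕ Fin 2) (Fin 2 ⊕ Fin 2) F) := by
    intro k B
    have e1 : ((k * B * k⁻¹ : Sp4 F) : Matrix (Fin 2 ⊕ Fin 2) (Fin 2 ⊕ Fin 2) F) =
        (k : Matrix _ _ F) * ((B * k⁻¹ : Sp4 F) : Matrix _ _ F) := by rw [mul_assoc]; rfl
    rw [e1, Matrix.trace_mul_comm]
    have e2 : ((B * k⁻¹ : Sp4 F) : Matrix (Fin 2 ⊕ Fin 2) (Fin 2 ⊕ Fin 2) F) * (k : Matrix _ _ F) =
        ((B * k⁻¹ * k : Sp4 F) : Matrix _ _ F) := rfl
    rw [e2, inv_mul_cancel_right]
  simp only [htr] at h1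
  rw [trace_trM] at h1
  rw [trace_sq, trace_trM, map_pow, map_pow, hφ] at h1
  -- `ω = ω ^ 2`
  apply hω1
  have h3 : (ω : F) * (ω - 1) = 0 := by linear_combination -h1
  rcases mul_eq_zero.1 h3 with h4 | h4
  · exact absurd h4 hω0
  · exact sub_eq_zero.1 h4

end main

end Cfsg.Agent.H545.FC
end
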